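import Mathlib.RingTheory.Valuation.LocalSubring
import Mathlib.AlgebraicGeometry.Stalk
import Mathlib.FieldTheory.IsAlgClosed.AlgebraicClosure
import Mathlib.AlgebraicGeometry.ResidueField
import Groth.Prelude.Def_Red

/-!
# Places of an algebraically closed field with algebraic residue extension
-/

set_option autoImplicit false
set_option linter.style.haveILetI false

universe u

open IsLocalRing Polynomial CategoryTheory AlgebraicGeometry

noncomputable section

namespace Groth.Agent.LeadSpec

variable {O K : Type u} [CommRing O] [Field K]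

/-- The valuation subring dominates the image of the maximal ideal. -/
def Dominates [IsLocalRing O] (φ : O →+* K) (V : ValuationSubring K) : Prop :=
  (∀ a, φ a ∈ V) ∧ ∀ a ∈ maximalIdeal O, φ a ∈ V.nonunits

theorem exists_minimal_dominates [IsLocalRing O] (φ : O →+* K) :
    ∃ V : ValuationSubring K, Dominates φ V ∧ ∀ W, Dominates φ W → W ≤ V → W = V := by
  obtain ⟨V₀, h₀, hloc⟩ := IsLocalRing.exists_factor_valuationRing φ
  have hV₀ : Dominates φ V₀ := ⟨h₀, fun a ha => by
    rw [← SetLike.mem_coe, ← ValuationSubring.image_maximalIdeal]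
    refine ⟨φ.codRestrict V₀.toSubring h₀ a, ?_, rfl⟩
    exact fun hu => ha ((isUnit_map_iff _ _).1 hu)⟩
  obtain ⟨V, hle, hV, hmin⟩ := zorn_le_nonempty₀
    (α := (ValuationSubring K)ᵒᵈ) {V | Dominates φ (OrderDual.ofDual V)} (fun c hc hchain y hy => by
      let T : ValuationSubring K :=
        { carrier := {x | ∀ V ∈ c, x ∈ OrderDual.ofDual V}
          mul_mem' := fun ha hb V hV => mul_mem (ha V hV) (hb V hV)
          one_mem' := fun V hV => one_mem _
          add_mem' := fun ha hb V hV => add_mem (ha V hV) (hb V hV)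
          zero_mem' := fun V hV => zero_mem _
          neg_mem' := fun ha V hV => neg_mem (ha V hV)
          mem_or_inv_mem' := fun x => by
            by_contra! h
            obtain ⟨h1, h2⟩ := h
            obtain ⟨V, hV, hxV⟩ : ∃ V ∈ c, x ∉ OrderDual.ofDual V := by
              by_contra! h'; exact h1 h'
            obtain ⟨W, hW, hxW⟩ : ∃ W ∈ c, x⁻¹ ∉ OrderDual.ofDual W := by
              by_contra! h'; exact h2 h'
            rcases hchain.total hV hW with h | h
            · exact hxW (((OrderDual.ofDual W).mem_or_inv_mem x).resolve_left fun h3 => hxV (h h3))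
            · exact hxV (((OrderDual.ofDual V).mem_or_inv_mem x).resolve_right fun h3 => hxW (h h3)) }
      refine ⟨OrderDual.toDual T, ⟨fun a V hV => (hc hV).1 a, fun a ha => ?_⟩, fun V hV x hx => hx V hV⟩
      have hTy : T ≤ OrderDual.ofDual y := fun x hx => hx y hy
      exact ValuationSubring.nonunits_le_nonunits.2 hTy ((hc hy).2 a ha))
    (OrderDual.toDual V₀) hV₀
  exact ⟨OrderDual.ofDual V, hV, fun W hW hWV => (le_antisymm hWV (hmin (y := OrderDual.toDual W) hW hWV))⟩

theorem isAlgClosed_residueField' [IsAlgClosed K] (V : ValuationSubring K) : IsAlgClosed (ResidueField V) := by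
  refine IsAlgClosed.of_exists_root _ fun p hp hirr => ?_
  obtain ⟨q, hq, hdeg, hqm⟩ := Polynomial.lifts_and_degree_eq_and_monic
    (Polynomial.map_surjective (residue V) residue_surjective p) hp
  obtain ⟨x, hx⟩ := IsAlgClosed.exists_root (q.map (algebraMap V K)) (by
    rw [hqm.degree_map, hdeg]; exact hirr.degree_pos.ne')
  have hxV : IsIntegral V x := ⟨q, hqm, by rwa [IsRoot.def, eval_map] at hx⟩
  obtain ⟨y, rfl⟩ := IsIntegrallyClosed.isIntegral_iff.1 hxV
  refine ⟨residue V y, ?_⟩
  rw [IsRoot.def, eval_map, eval₂_at_apply] at hx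
  rw [← hq, eval_map, eval₂_at_apply, IsFractionRing.injective V K (hx.trans (map_zero _).symm), map_zero]

theorem exists_place [IsAlgClosed K] [IsLocalRing O] (φ : O →+* K) (k : Type u) [Field k]
    [Algebra (ResidueField O) k] [IsAlgClosure (ResidueField O) k] :
    ∃ (V : ValuationSubring K) (hV : ∀ a, φ a ∈ V) (π : V →+* k), Function.Surjective π ∧
      RingHom.ker π = maximalIdeal V ∧
      π.comp (φ.codRestrict V.toSubring hV) = (algebraMap (ResidueField O) k).comp (residue O) := by
  obtain ⟨V, hV, hmin⟩ := exists_minimal_dominates φ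
  let ρ : O →+* V := φ.codRestrict V.toSubring hV.1
  haveI : IsLocalHom ρ := ⟨fun a ha => by
    by_contra h
    have := hV.2 a h
    rw [← SetLike.mem_coe, ← ValuationSubring.image_maximalIdeal] at this
    obtain ⟨b, hb, hbe⟩ := this
    exact hb ((show b = ρ a from Subtype.ext hbe) ▸ ha)⟩
  letI : Algebra (ResidueField O) (ResidueField V) := (ResidueField.map ρ).toAlgebra
  haveI := isAlgClosed_residueField' V
  haveI : Algebra.IsAlgebraic (ResidueField O) (ResidueField V) := ⟨fun x => by
    by_contra hx
    let A := Algebra.adjoin (ResidueField O) ({x} : Set (ResidueField V))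
    have hI : Ideal.span {(⟨x, Algebra.subset_adjoin rfl⟩ : A)} ≠ ⊤ := fun h => by
      rw [Ideal.span_singleton_eq_top, isUnit_iff_exists_inv] at h
      obtain ⟨⟨b, hb⟩, hb1⟩ := h
      change b ∈ Algebra.adjoin (ResidueField O) {x} at hb
      rw [Algebra.adjoin_singleton_eq_range_aeval] at hb
      obtain ⟨p, rfl⟩ := hb
      refine hx ⟨X * p - 1, fun h0 => ?_, by
        rw [map_sub, map_mul, aeval_X, map_one, sub_eq_zero]; exact congrArg Subtype.val hb1⟩
      exact not_isUnit_X (isUnit_iff_exists_inv.2 ⟨p, sub_eq_zero.1 h0⟩)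
    obtain ⟨W, hAW, hxW⟩ := Ideal.image_subset_nonunits_valuationSubring (A := A.toSubring) _ hI
    let V' : ValuationSubring K :=
      { carrier := {y | ∃ h : y ∈ V, residue V ⟨y, h⟩ ∈ W}
        mul_mem' := fun ⟨ha, ha'⟩ ⟨hb, hb'⟩ => ⟨mul_mem ha hb, by
          rw [show (⟨_, mul_mem ha hb⟩ : V) = ⟨_, ha⟩ * ⟨_, hb⟩ from rfl, map_mul]; exact mul_mem ha' hb'⟩
        one_mem' := ⟨one_mem _, by
          rw [show (⟨1, one_mem _⟩ : V) = 1 from rfl, map_one]; exact one_mem _⟩
        add_mem' := fun ⟨ha, ha'⟩ ⟨hb, hb'⟩ => ⟨add_mem ha hb, by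
          rw [show (⟨_, add_mem ha hb⟩ : V) = ⟨_, ha⟩ + ⟨_, hb⟩ from rfl, map_add]; exact add_mem ha' hb'⟩
        zero_mem' := ⟨zero_mem _, by
          rw [show (⟨0, zero_mem _⟩ : V) = 0 from rfl, map_zero]; exact zero_mem _⟩
        neg_mem' := fun ⟨ha, ha'⟩ => ⟨neg_mem ha, by
          rw [show (⟨_, neg_mem ha⟩ : V) = -⟨_, ha⟩ from rfl, map_neg]; exact neg_mem ha'⟩
        mem_or_inv_mem' := fun y => by
          have key : ∀ z : K, z ∉ V → ∃ h : z⁻¹ ∈ V, residue V ⟨z⁻¹, h⟩ ∈ W := fun z hz => by
            refine ⟨(V.mem_or_inv_mem z).resolve_left hz, ?_⟩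
            rw [(residue_eq_zero_iff _).2 fun hu => ?_]
            · exact zero_mem _
            · obtain ⟨⟨c, hc⟩, hc1⟩ := isUnit_iff_exists_inv.1 hu
              have : c = z := by
                rw [← inv_inv z]; exact eq_inv_of_mul_eq_one_right (congrArg Subtype.val hc1)
              exact hz (this ▸ hc)
          by_cases hy : y ∈ V
          · by_cases hy' : y⁻¹ ∈ V
            · rcases eq_or_ne y 0 with rfl | hy0
              · exact Or.inl ⟨hy, by rw [show (⟨0, hy⟩ : V) = 0 from rfl, map_zero]; exact zero_mem _⟩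
              rcases W.mem_or_inv_mem (residue V ⟨y, hy⟩) with h | h
              · exact Or.inl ⟨hy, h⟩
              · refine Or.inr ⟨hy', ?_⟩
                rwa [show residue V ⟨y⁻¹, hy'⟩ = (residue V ⟨y, hy⟩)⁻¹ from eq_inv_of_mul_eq_one_right (by
                  rw [← map_mul]; exact (congrArg (residue V) (Subtype.ext (mul_inv_cancel₀ hy0))).trans (map_one _))]
            · obtain ⟨h1, h2⟩ := key y⁻¹ hy'
              exact Or.inl ⟨hy, by simpa only [inv_inv] using h2⟩
          · exact Or.inr (key y hy) }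
    have hle : V' ≤ V := fun y hy => hy.1
    have hdom : Dominates φ V' := ⟨fun a => ⟨hV.1 a, hAW ((ResidueField.map_residue ρ a) ▸
      A.algebraMap_mem (residue O a))⟩, fun a ha => ValuationSubring.nonunits_le_nonunits.2 hle (hV.2 a ha)⟩
    have hxW' : x ∈ W.nonunits := hxW ⟨_, Ideal.mem_span_singleton_self _, rfl⟩
    have hx0 : x ≠ 0 := fun h => hx (h ▸ isAlgebraic_zero)
    obtain ⟨y, hy⟩ := residue_surjective x⁻¹
    have hy' : (y : K) ∈ V' := by rw [hmin V' hdom hle]; exact y.2
    obtain ⟨_, hyW⟩ : ∃ h : (y : K) ∈ V, residue V ⟨(y : K), h⟩ ∈ W := hy'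
    rw [Subtype.coe_eta, hy] at hyW
    exact (W.inv_mem_nonunits_iff.1 (by rwa [inv_inv] : (x⁻¹)⁻¹ ∈ W.nonunits)).resolve_left
      (inv_ne_zero hx0) hyW⟩
  haveI : IsAlgClosure (ResidueField O) (ResidueField V) := ⟨inferInstance, inferInstance⟩
  let e := IsAlgClosure.equiv (ResidueField O) (ResidueField V) k
  refine ⟨V, hV.1, (e.toAlgHom.toRingHom).comp (residue V), e.surjective.comp residue_surjective,
    ?_, RingHom.ext fun a => e.commutes (residue O a)⟩
  exact (RingHom.ker_comp_of_injective (residue V) (f := e.toAlgHom.toRingHom) e.injective).trans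
    ker_residue

/-- A specialization of geometric points is realised by a valuation ring. -/
theorem exists_geom_specialization {S : Scheme.{u}} {s s' : S} (h : s ⤳ s') :
    ∃ (V : ValuationSubring (AlgebraicClosure (S.residueField s)))
      (π : V →+* AlgebraicClosure (S.residueField s')) (g : Spec (CommRingCat.of V) ⟶ S),
      Function.Surjective π ∧ RingHom.ker π = maximalIdeal V ∧
      Spec.map (CommRingCat.ofHom (algebraMap V (AlgebraicClosure (S.residueField s)))) ≫ g = Red.geomPt s ∧
      Spec.map (CommRingCat.ofHom π) ≫ g = Red.geomPt s' := by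
  let φ : S.presheaf.stalk s' →+* AlgebraicClosure (S.residueField s) :=
    (algebraMap (S.residueField s) _).comp (S.presheaf.stalkSpecializes h ≫ S.residue s).hom
  letI : Algebra (ResidueField (S.presheaf.stalk s')) (AlgebraicClosure (S.residueField s')) :=
    inferInstanceAs (Algebra (S.residueField s') (AlgebraicClosure (S.residueField s')))
  haveI : IsAlgClosure (ResidueField (S.presheaf.stalk s')) (AlgebraicClosure (S.residueField s')) :=
    inferInstanceAs (IsAlgClosure (S.residueField s') (AlgebraicClosure (S.residueField s')))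
  obtain ⟨V, hV, π, hπ, hker, hπφ⟩ := exists_place φ (AlgebraicClosure (S.residueField s'))
  let ρ : S.presheaf.stalk s' ⟶ CommRingCat.of V := CommRingCat.ofHom (φ.codRestrict V.toSubring hV)
  refine ⟨V, π, Spec.map ρ ≫ S.fromSpecStalk s', hπ, hker, ?_, ?_⟩
  · rw [← Category.assoc, ← Spec.map_comp]
    rw [show ρ ≫ CommRingCat.ofHom (algebraMap V (AlgebraicClosure (S.residueField s))) =
      S.presheaf.stalkSpecializes h ≫ S.residue s ≫ CommRingCat.ofHom
        (algebraMap (S.residueField s) (AlgebraicClosure (S.residueField s))) from rfl,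
      Spec.map_comp, Category.assoc, Scheme.SpecMap_stalkSpecializes_fromSpecStalk]
    erw [Spec.map_comp, Category.assoc]
    rfl
  · rw [← Category.assoc, ← Spec.map_comp,
      show ρ ≫ CommRingCat.ofHom π = S.residue s' ≫ CommRingCat.ofHom
        (algebraMap (S.residueField s') (AlgebraicClosure (S.residueField s'))) from CommRingCat.hom_ext hπφ]
    erw [Spec.map_comp, Category.assoc]
    rfl

end Groth.Agent.LeadSpec
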