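import Groth.Agent.LeadSpec.Closure
import Groth.Prelude.Def_AlgGrp
import Groth.Agent.H21Diag.BaseChange

/-!
# Transfer of conditions on subgroups along base change
-/

set_option autoImplicit false
set_option linter.style.haveILetI false
set_option backward.isDefEq.respectTransparency false
set_option synthInstance.maxHeartbeats 200000

universe u

open CategoryTheory CategoryTheory.Limits MonoidalCategory CartesianMonoidalCategory MonObj GrpObj AlgebraicGeometry

namespace Groth.Agent.LeadSpec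

/-- The subgroup contains all commutators. -/
def CommIn {S : Scheme.{u}} {N G : Over S} [GrpObj G] (i : N ⟶ G) : Prop :=
  ∀ (T : Over S) (g h : T ⟶ G), ∃ m : T ⟶ N, g * h * g⁻¹ * h⁻¹ = m ≫ i

theorem pullback_map_inv {S S' : Scheme.{u}} (f : S' ⟶ S) {G X : Over S} [GrpObj G] (x : X ⟶ G) :
    (Over.pullback f).map x⁻¹ = ((Over.pullback f).map x)⁻¹ := by
  refine eq_inv_of_mul_eq_one_left ?_
  rw [← Functor.map_mul, inv_mul_cancel, Functor.map_one]

section Iso

variable {S : Scheme.{u}} {N G G' : Over S} [GrpObj N] [GrpObj G] [GrpObj G']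

theorem isNormalHom_comp_iso {i : N ⟶ G} (h : AlgGrp.IsNormalHom i) (a : Grp.mk G ≅ Grp.mk G') :
    AlgGrp.IsNormalHom (i ≫ a.hom.hom.hom) := by
  intro T g n
  obtain ⟨n', hn⟩ := h T (g ≫ a.inv.hom.hom) n
  refine ⟨n', ?_⟩
  haveI : IsMonHom a.hom.hom.hom := a.hom.hom.isMonHom_hom
  have := congrArg (IsMonHom.monoidHom a.hom.hom.hom T) hn
  rw [map_mul, map_mul, map_inv] at this
  have hi : a.inv.hom.hom ≫ a.hom.hom.hom = 𝟙 G' := congrArg (fun m => m.hom.hom) a.inv_hom_id
  simpa [IsMonHom.monoidHom, hi] using this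

theorem commIn_comp_iso {i : N ⟶ G} (h : CommIn i) (a : Grp.mk G ≅ Grp.mk G') :
    CommIn (i ≫ a.hom.hom.hom) := by
  intro T g g'
  obtain ⟨m, hm⟩ := h T (g ≫ a.inv.hom.hom) (g' ≫ a.inv.hom.hom)
  refine ⟨m, ?_⟩
  haveI : IsMonHom a.hom.hom.hom := a.hom.hom.isMonHom_hom
  have := congrArg (IsMonHom.monoidHom a.hom.hom.hom T) hm
  rw [map_mul, map_mul, map_mul, map_inv, map_inv] at this
  have hi : a.inv.hom.hom ≫ a.hom.hom.hom = 𝟙 G' := congrArg (fun m => m.hom.hom) a.inv_hom_id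
  simpa [IsMonHom.monoidHom, hi] using this

end Iso

section BaseChange

variable {S S' : Scheme.{u}} (f : S' ⟶ S) {Z G : Over S} [GrpObj Z] [GrpObj G] {j : Z ⟶ G}

theorem isNormalHom_bc (h : AlgGrp.IsNormalHom j) : AlgGrp.IsNormalHom ((Over.pullback f).map j) := by
  intro T g n
  obtain ⟨n₀, hn⟩ := h (G ⊗ Z) (fst G Z) (snd G Z)
  let p : T ⟶ (Over.pullback f).obj (G ⊗ Z) := lift g n ≫ Functor.LaxMonoidal.μ (Over.pullback f) G Z
  refine ⟨p ≫ (Over.pullback f).map n₀, ?_⟩
  have hg : p ≫ (Over.pullback f).map (fst G Z) = g := by simp [p]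
  have hz : p ≫ (Over.pullback f).map (snd G Z) = n := by simp [p]
  rw [Category.assoc, ← Functor.map_comp, ← hn]
  simp only [Functor.map_mul, Functor.map_comp, MonObj.comp_mul, GrpObj.comp_inv, reassoc_of% hz, hg, pullback_map_inv]

theorem commIn_bc (h : CommIn j) : CommIn ((Over.pullback f).map j) := by
  intro T g g'
  obtain ⟨m₀, hm⟩ := h (G ⊗ G) (fst G G) (snd G G)
  let p : T ⟶ (Over.pullback f).obj (G ⊗ G) := lift g g' ≫ Functor.LaxMonoidal.μ (Over.pullback f) G G
  refine ⟨p ≫ (Over.pullback f).map m₀, ?_⟩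
  have hg : p ≫ (Over.pullback f).map (fst G G) = g := by simp [p]
  have hz : p ≫ (Over.pullback f).map (snd G G) = g' := by simp [p]
  rw [Category.assoc, ← Functor.map_comp, ← hm]
  simp only [Functor.map_mul, Functor.map_comp, MonObj.comp_mul, GrpObj.comp_inv, hz, hg, pullback_map_inv]

end BaseChange

section Up

variable {V : Type u} [CommRing V] [IsDomain V] {K : Type u} [Field K] [Algebra V K] [IsFractionRing V K]
  {G Z : Over (Spec (CommRingCat.of V))} [GrpObj G] [GrpObj Z] [Flat G.hom] [Flat Z.hom] (j : Z ⟶ G)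
  [IsClosedImmersion j.left]

theorem isNormalHom_of_generic (h : AlgGrp.IsNormalHom ((Over.pullback (gen (V := V) K)).map j)) :
    AlgGrp.IsNormalHom j := by
  haveI : Flat (G ⊗ Z).hom := by
    show Flat (pullback.fst G.hom Z.hom ≫ G.hom)
    infer_instance
  obtain ⟨n, hn⟩ := h _ ((Over.pullback (gen K)).map (fst G Z)) ((Over.pullback (gen K)).map (snd G Z))
  obtain ⟨n₀, hn₀⟩ := exists_lift' (K := K) j (fst G Z * (snd G Z ≫ j) * (fst G Z)⁻¹) n (by
    rw [← hn]
    simp only [Functor.map_mul, Functor.map_comp, pullback_map_inv])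
  intro T g m
  refine ⟨lift g m ≫ n₀, ?_⟩
  rw [Category.assoc, hn₀]
  simp [MonObj.comp_mul, GrpObj.comp_inv]

omit [GrpObj Z] [Flat Z.hom] in
theorem commIn_of_generic (h : CommIn ((Over.pullback (gen (V := V) K)).map j)) : CommIn j := by
  haveI : Flat (G ⊗ G).hom := by
    show Flat (pullback.fst G.hom G.hom ≫ G.hom)
    infer_instance
  obtain ⟨n, hn⟩ := h _ ((Over.pullback (gen K)).map (fst G G)) ((Over.pullback (gen K)).map (snd G G))
  obtain ⟨n₀, hn₀⟩ := exists_lift' (K := K) j (fst G G * snd G G * (fst G G)⁻¹ * (snd G G)⁻¹) n (by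
    rw [← hn]
    simp only [Functor.map_mul, pullback_map_inv])
  intro T g m
  refine ⟨lift g m ≫ n₀, ?_⟩
  rw [Category.assoc, hn₀]
  simp [MonObj.comp_mul, GrpObj.comp_inv]

end Up

end Groth.Agent.LeadSpec
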