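import Groth.Agent.LeadSpec.Dim
import Groth.Agent.LeadSpec.Place
import Groth.Agent.LeadSpec.Transfer
import Groth.Agent.H21Diag.BaseChange

/-!
# Specialization of normal subgroups containing all commutators
-/

set_option autoImplicit false
set_option linter.style.haveILetI false
set_option backward.isDefEq.respectTransparency false
set_option synthInstance.maxHeartbeats 200000

universe u

open CategoryTheory CategoryTheory.Limits MonoidalCategory CartesianMonoidalCategory MonObj GrpObj AlgebraicGeometry

namespace Groth.Agent.LeadSpec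

/-- A closed immersion after an isomorphism of groups. -/
theorem isClosedImmersion_comp_iso {S : Scheme.{u}} {N G G' : Over S} [GrpObj G] [GrpObj G'] {i : N ⟶ G}
    (h : IsClosedImmersion i.left) (a : Grp.mk G ≅ Grp.mk G') : IsClosedImmersion (i ≫ a.hom.hom.hom).left := by
  let b : G ≅ G' := (Grp.forget _).mapIso a
  haveI : IsIso a.hom.hom.hom.left := inferInstanceAs (IsIso ((Over.forget S).mapIso b).hom)
  rw [Over.comp_left]
  infer_instance

theorem dim_iso {S : Scheme.{u}} {X Y : Over S} (e : X ≅ Y) :
    topologicalKrullDim ↥X.left = topologicalKrullDim ↥Y.left :=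
  IsHomeomorph.topologicalKrullDim_eq _ (Scheme.Hom.homeomorph ((Over.forget S).mapIso e).hom).isHomeomorph

variable {S : Scheme.{u}} {s s' : S}

/-- The data realising a specialization by a valuation ring. -/
structure Spz (h : s ⤳ s') where
  V : ValuationSubring (AlgebraicClosure (S.residueField s))
  π : V →+* AlgebraicClosure (S.residueField s')
  g : Spec (CommRingCat.of V) ⟶ S
  ker_π : RingHom.ker π = IsLocalRing.maximalIdeal V
  gen_g : Spec.map (CommRingCat.ofHom (algebraMap V (AlgebraicClosure (S.residueField s)))) ≫ g = Red.geomPt s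
  spec_g : Spec.map (CommRingCat.ofHom π) ≫ g = Red.geomPt s'

theorem nonempty_spz (h : s ⤳ s') : Nonempty (Spz h) := by
  obtain ⟨V, π, g, -, h1, h2, h3⟩ := exists_geom_specialization h
  exact ⟨⟨V, π, g, h1, h2, h3⟩⟩

variable {h : s ⤳ s'} (D : Spz h) (G : Over S) [GrpObj G]

/-- The geometric generic fibre as a base change from the valuation ring. -/
noncomputable def Spz.genIso :
    Grp.mk (Red.geomFibre s G) ≅ Grp.mk (Red.bc (gen (AlgebraicClosure (S.residueField s))) (Red.bc D.g G)) :=
  H21Diag.bcCongrIso D.gen_g.symm G ≪≫ H21Diag.bcCompIso (gen (AlgebraicClosure (S.residueField s))) D.g G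

/-- The geometric special fibre as a base change from the valuation ring. -/
noncomputable def Spz.specIso :
    Grp.mk (Red.bc (Spec.map (CommRingCat.ofHom D.π)) (Red.bc D.g G)) ≅ Grp.mk (Red.geomFibre s' G) :=
  (H21Diag.bcCompIso (Spec.map (CommRingCat.ofHom D.π)) D.g G).symm ≪≫ H21Diag.bcCongrIso D.spec_g G

theorem dim_geomFibre_le (h : s ⤳ s') (G : Over S) [GrpObj G] [LocallyOfFiniteType G.hom] :
    topologicalKrullDim ↥(Red.geomFibre s G).left ≤ topologicalKrullDim ↥(Red.geomFibre s' G).left := by
  obtain ⟨D⟩ := nonempty_spz h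
  haveI : LocallyOfFiniteType (Red.bc D.g G).hom :=
    inferInstanceAs (LocallyOfFiniteType (pullback.snd G.hom D.g))
  exact (dim_iso ((Grp.forget _).mapIso (D.genIso G))).trans_le
    ((le_dim_special (K := AlgebraicClosure (S.residueField s)) D.π (Red.bc D.g G) D.ker_π).trans_eq
      (dim_iso ((Grp.forget _).mapIso (D.specIso G))))

/-- Normal subgroups containing all commutators specialize, without increase of dimension. -/
theorem exists_specialized_normal (h : s ⤳ s') (G : Over S) [GrpObj G] [Flat G.hom] [LocallyOfFiniteType G.hom]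
    {N : Over (Spec (CommRingCat.of (AlgebraicClosure (S.residueField s))))} [GrpObj N]
    (i : N ⟶ Red.geomFibre s G) [IsMonHom i] (hcl : IsClosedImmersion i.left)
    (hn : AlgGrp.IsNormalHom i) (hc : CommIn i) :
    ∃ (N' : Over (Spec (CommRingCat.of (AlgebraicClosure (S.residueField s'))))) (_ : GrpObj N')
      (i' : N' ⟶ Red.geomFibre s' G), IsMonHom i' ∧ IsClosedImmersion i'.left ∧ AlgGrp.IsNormalHom i' ∧
      CommIn i' ∧ topologicalKrullDim ↥N'.left ≤ topologicalKrullDim ↥N.left := by
  obtain ⟨D⟩ := nonempty_spz h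
  let GV := Red.bc D.g G
  haveI : Flat GV.hom := inferInstanceAs (Flat (pullback.snd G.hom D.g))
  haveI : LocallyOfFiniteType GV.hom := inferInstanceAs (LocallyOfFiniteType (pullback.snd G.hom D.g))
  let K := AlgebraicClosure (S.residueField s)
  let a := D.genIso G
  haveI : IsMonHom a.hom.hom.hom := a.hom.hom.isMonHom_hom
  let i₁ : N ⟶ Red.bc (gen K) GV := i ≫ a.hom.hom.hom
  haveI : IsClosedImmersion i₁.left := isClosedImmersion_comp_iso hcl a
  obtain ⟨Z, _, j, e, hj, hjc, hjf, he, hei⟩ := exists_closure (K := K) GV i₁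
  have hn₁ : AlgGrp.IsNormalHom ((Over.pullback (gen K)).map j) := fun T g n => by
    obtain ⟨n', hn'⟩ := isNormalHom_comp_iso hn a T g (n ≫ e.inv)
    refine ⟨n' ≫ e.hom, ?_⟩
    have h2 : e.inv ≫ i₁ = (Over.pullback (gen K)).map j := by rw [← hei, Iso.inv_hom_id_assoc]
    rw [Category.assoc, h2] at hn'
    rw [Category.assoc, hei]
    exact hn'
  have hc₁ : CommIn ((Over.pullback (gen K)).map j) := fun T g g' => by
    obtain ⟨m, hm⟩ := commIn_comp_iso hc a T g g'
    exact ⟨m ≫ e.hom, by rw [Category.assoc, hei]; exact hm⟩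
  haveI := hj
  let sp := Spec.map (CommRingCat.ofHom D.π)
  let b := D.specIso G
  haveI : IsMonHom b.hom.hom.hom := b.hom.hom.isMonHom_hom
  have hcl' : IsClosedImmersion ((Over.pullback sp).map j).left := by
    refine MorphismProperty.of_isPullback (P := @IsClosedImmersion) (g := j.left)
      (f := pullback.fst GV.hom sp) (f' := pullback.fst Z.hom sp) ?_ hjc
    refine IsPullback.of_bot (v₂₁ := pullback.snd GV.hom sp) (v₂₂ := GV.hom) (h₃₁ := sp) ?_ ?_
      (IsPullback.of_hasPullback GV.hom sp)
    · rw [Over.w j]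
      rw [show ((Over.pullback sp).map j).left ≫ pullback.snd GV.hom sp = pullback.snd Z.hom sp from
        Over.w ((Over.pullback sp).map j)]
      exact IsPullback.of_hasPullback Z.hom sp
    · simp
  refine ⟨_, inferInstance, (Over.pullback sp).map j ≫ b.hom.hom.hom, inferInstance,
    isClosedImmersion_comp_iso hcl' b, isNormalHom_comp_iso (isNormalHom_bc sp (isNormalHom_of_generic j hn₁)) b,
    commIn_comp_iso (commIn_bc sp (commIn_of_generic j hc₁)) b, ?_⟩
  haveI : LocallyOfFiniteType Z.hom := by rw [← Over.w j]; infer_instance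
  exact (dim_special_le (K := K) D.π Z D.ker_π).trans (dim_iso e).ge

end Groth.Agent.LeadSpec
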