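import Groth.Agent.LeadSpec.Identity
import Groth.Agent.LeadSpec.Setup
import Groth.Agent.H28Neron.SpecialFibreImage
import Groth.Agent.H19Grp.GroupCI
import Groth.Agent.H19Grp.SmoothLocus

/-!
# Specialization of subgroups satisfying word identities
-/

set_option autoImplicit false
set_option linter.style.haveILetI false
set_option backward.isDefEq.respectTransparency false
set_option synthInstance.maxHeartbeats 200000
set_option maxHeartbeats 1000000

universe u

open CategoryTheory CategoryTheory.Limits MonoidalCategory CartesianMonoidalCategory MonObj GrpObj AlgebraicGeometry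

noncomputable section

namespace Groth.Agent.LeadSpec

/-- The reduced identity component. -/
theorem exists_smooth_connected_subgroup {k : Type u} [Field k] [PerfectField k]
    (G : Over (Spec (CommRingCat.of k))) [GrpObj G] [LocallyOfFiniteType G.hom] :
    ∃ (H : Over (Spec (CommRingCat.of k))) (_ : GrpObj H) (c : H ⟶ G), IsMonHom c ∧ IsClosedImmersion c.left ∧
      Smooth H.hom ∧ ConnectedSpace ↥H.left ∧ topologicalKrullDim ↥H.left = topologicalKrullDim ↥G.left := by
  obtain ⟨gR, hR⟩ := H19Grp.GroupCI.exists_grpObj_reduced G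
  let R : Over (Spec (CommRingCat.of k)) := Over.mk (G.left.nilradical.subschemeι ≫ G.hom)
  let r : R ⟶ G := Over.homMk G.left.nilradical.subschemeι rfl
  haveI : IsMonHom r := hR
  haveI : IsClosedImmersion r.left := inferInstanceAs (IsClosedImmersion G.left.nilradical.subschemeι)
  haveI : LocallyOfFiniteType R.hom := by dsimp [R]; infer_instance
  haveI : IsReduced R.left := inferInstanceAs (IsReduced G.left.nilradical.subscheme)
  haveI : Smooth R.hom := H19Grp.smooth_of_isReduced_perfect R
  haveI : Surjective r.left := ⟨fun x => (Scheme.IdealSheafData.range_subschemeι _).ge trivial⟩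
  have hdR : topologicalKrullDim ↥R.left = topologicalKrullDim ↥G.left :=
    IsHomeomorph.topologicalKrullDim_eq _ ((isHomeomorph_iff_isEmbedding_surjective (f := r.left)).2
      ⟨r.left.isClosedEmbedding.isEmbedding, r.left.surjective⟩)
  obtain ⟨gC, hC⟩ := H19Grp.exists_grpObj_idComp R
  haveI := hC
  let c := H19Grp.idCompι R
  haveI : Smooth (H19Grp.idComp R).hom := by
    rw [← Over.w c]
    haveI : IsOpenImmersion c.left := H28Neron.SpecialFibreImage.isOpenImmersion_idCompι
    infer_instance
  have hrange := H19Grp.range_idCompι R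
  have hconn : ConnectedSpace ↥(H19Grp.idComp R).left := by
    rw [connectedSpace_iff_univ]
    refine ⟨⟨η[H19Grp.idComp R].left (IsLocalRing.closedPoint k), trivial⟩, ?_⟩
    refine c.left.isClosedEmbedding.isInducing.isPreconnected_image.1 ?_
    rw [Set.image_univ, hrange]
    exact isPreconnected_connectedComponent
  refine ⟨H19Grp.idComp R, gC, c ≫ r, inferInstance, ?_, inferInstance, hconn, ?_⟩
  · rw [Over.comp_left]; infer_instance
  haveI : LocallyOfFiniteType (H19Grp.grpToGrpd R).s := inferInstanceAs (LocallyOfFiniteType R.hom)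
  haveI : LocallyOfFiniteType (H19Grp.grpToGrpd R).t := inferInstanceAs (LocallyOfFiniteType R.hom)
  have h1 : topologicalKrullDim ↥(H19Grp.idComp R).left = topologicalKrullDim (Set.range c.left) :=
    IsHomeomorph.topologicalKrullDim_eq _ c.left.isClosedEmbedding.isEmbedding.toHomeomorph.isHomeomorph
  rw [h1, hrange, ← hdR]
  refine H19Grp.topologicalKrullDim_component (H19Grp.grpToGrpd R) (Iso.refl _) _ ?_
  rw [H19Grp.connectedComponent_eq_irreducibleComponent (H19Grp.grpToGrpd R) (Iso.refl _)]
  exact irreducibleComponent_mem_irreducibleComponents _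

/-- Subgroups specialize to smooth connected subgroups of at least the same dimension satisfying the same
word identities. -/
theorem exists_specialized_subgroup {S : Scheme.{u}} {s s' : S} (h : s ⤳ s') (G : Over S) [GrpObj G]
    [LocallyOfFiniteType G.hom] {H : Over (Spec (CommRingCat.of (AlgebraicClosure (S.residueField s))))}
    [GrpObj H] (i : H ⟶ Red.geomFibre s G) [IsMonHom i] (hcl : IsClosedImmersion i.left) :
    ∃ (H' : Over (Spec (CommRingCat.of (AlgebraicClosure (S.residueField s'))))) (_ : GrpObj H')
      (i' : H' ⟶ Red.geomFibre s' G), IsMonHom i' ∧ IsClosedImmersion i'.left ∧ Smooth H'.hom ∧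
      ConnectedSpace ↥H'.left ∧ topologicalKrullDim ↥H.left ≤ topologicalKrullDim ↥H'.left ∧
      ∀ w : FreeGroup ℕ, Identity w H → Identity w H' := by
  obtain ⟨D⟩ := nonempty_spz h
  let GV := Red.bc D.g G
  haveI : LocallyOfFiniteType GV.hom := inferInstanceAs (LocallyOfFiniteType (pullback.snd G.hom D.g))
  let K := AlgebraicClosure (S.residueField s)
  let a := D.genIso G
  haveI : IsMonHom a.hom.hom.hom := a.hom.hom.isMonHom_hom
  let i₁ : H ⟶ Red.bc (gen K) GV := i ≫ a.hom.hom.hom
  haveI : IsClosedImmersion i₁.left := isClosedImmersion_comp_iso hcl a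
  obtain ⟨Z, _, j, e, hj, hjc, hjf, he, hei⟩ := exists_closure (K := K) GV i₁
  haveI := hj
  haveI := he
  haveI : LocallyOfFiniteType Z.hom := by rw [← Over.w j]; infer_instance
  let sp := Spec.map (CommRingCat.ofHom D.π)
  haveI : LocallyOfFiniteType (Red.bc sp Z).hom := inferInstanceAs (LocallyOfFiniteType (pullback.snd Z.hom sp))
  obtain ⟨H', _, c, hc, hcc, hsm, hconn, hdim⟩ := exists_smooth_connected_subgroup (Red.bc sp Z)
  haveI := hc
  haveI := hcc
  haveI := hsm
  haveI := hconn
  haveI : Mono c := (Over.forget _).mono_of_mono_map (show Mono c.left from inferInstance)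
  let b := D.specIso G
  haveI : IsMonHom b.hom.hom.hom := b.hom.hom.isMonHom_hom
  have hcl' : IsClosedImmersion ((Over.pullback sp).map j).left := by
    refine MorphismProperty.of_isPullback (P := @IsClosedImmersion) (g := j.left)
      (f := pullback.fst GV.hom sp) (f' := pullback.fst Z.hom sp) ?_ hjc
    refine IsPullback.of_bot (v₂₁ := pullback.snd GV.hom sp) (v₂₂ := GV.hom) (h₃₁ := sp) ?_ ?_
      (IsPullback.of_hasPullback GV.hom sp)
    · rw [Over.w j]
      rw [show ((Over.pullback sp).map j).left ≫ pullback.snd GV.hom sp = pullback.snd Z.hom sp from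
        Over.w ((Over.pullback sp).map j)]
      exact IsPullback.of_hasPullback Z.hom sp
    · simp
  refine ⟨H', inferInstance, (c ≫ (Over.pullback sp).map j) ≫ b.hom.hom.hom, inferInstance,
    isClosedImmersion_comp_iso (by rw [Over.comp_left]; infer_instance) b, hsm, hconn, ?_, fun w hw => ?_⟩
  · rw [hdim, dim_iso e]
    exact le_dim_special (K := K) D.π Z D.ker_π
  · refine identity_special (K := K) Z D.π c w (identity_of_iso hw e.inv)

end Groth.Agent.LeadSpec
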