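import Groth.Agent.H28Neron.ClosureSubgroup
import Groth.Agent.H19Grp.NeutralOpen
import Groth.Agent.H8Props.ImageTorsionFree
import Mathlib.RingTheory.Flat.TorsionFree
import Mathlib.RingTheory.Valuation.ValuationRing

/-!
# Schematic closures of subgroups of the generic fibre over a valuation ring
-/

set_option autoImplicit false
set_option linter.style.haveILetI false
set_option backward.isDefEq.respectTransparency false

universe u

open CategoryTheory CategoryTheory.Limits MonoidalCategory CartesianMonoidalCategory MonObj GrpObj AlgebraicGeometry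
open Groth.Agent.H8Props.ImageTorsionFree

namespace Groth.Agent.LeadSpec

variable {V : Type u} [CommRing V] [IsDomain V]

section

variable (K : Type u) [Field K] [Algebra V K] [IsFractionRing V K]

/-- The generic point. -/
noncomputable abbrev gen : Spec (CommRingCat.of K) ⟶ Spec (CommRingCat.of V) :=
  Spec.map (CommRingCat.ofHom (algebraMap V K))

instance flat_gen : Flat (gen (V := V) K) :=
  (HasRingHomProperty.Spec_iff (P := @Flat)).mpr
    (RingHom.flat_algebraMap_iff.mpr (IsLocalization.flat K (nonZeroDivisors V)))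

instance isDominant_gen : IsDominant (gen (V := V) K) := by
  refine ⟨?_⟩
  exact PrimeSpectrum.denseRange_comap_iff_ker_le_nilRadical (algebraMap V K) |>.2
    (((RingHom.injective_iff_ker_eq_bot _).1 (IsFractionRing.injective V K)).trans_le bot_le)

instance : IsSchemeTheoreticallyDominant (gen (V := V) K) := .of_isDominant _

instance mono_gen : Mono (gen (V := V) K) := by
  haveI := IsPreimmersion.of_isLocalization (R := V) (S := K) (nonZeroDivisors V)
  infer_instance

variable {K}

/-- A closed subscheme containing the generic fibre of a flat scheme is everything. -/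
theorem exists_lift {T G Z : Over (Spec (CommRingCat.of V))} [Flat T.hom] (j : Z ⟶ G)
    [IsClosedImmersion j.left] (a : T ⟶ G) (b : pullback T.hom (gen K) ⟶ Z.left)
    (hb : b ≫ j.left = pullback.fst T.hom (gen K) ≫ a.left) :
    ∃ c : T ⟶ Z, c ≫ j = a := by
  let u := pullback.fst a.left j.left
  let v : pullback T.hom (gen K) ⟶ pullback a.left j.left := pullback.lift (pullback.fst _ _) b hb.symm
  have hv : v ≫ u = pullback.fst _ _ := pullback.lift_fst _ _ _
  haveI : IsSchemeTheoreticallyDominant (pullback.fst T.hom (gen (V := V) K)) :=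
    IsSchemeTheoreticallyDominant.of_isPullback (IsPullback.of_hasPullback T.hom (gen K)).flip
  haveI : IsIso u := IsClosedImmersion.isIso_iff_ker_eq_bot.2 (le_bot_iff.1
    ((Scheme.Hom.le_ker_comp v u).trans (by rw [hv, Scheme.Hom.ker_eq_bot])))
  have hc : (inv u ≫ pullback.snd a.left j.left) ≫ j.left = a.left := by
    rw [Category.assoc, ← pullback.condition, IsIso.inv_hom_id_assoc]
  exact ⟨Over.homMk (inv u ≫ pullback.snd a.left j.left)
    (by rw [← Over.w j, ← Category.assoc, hc, Over.w a]), Over.OverMorphism.ext hc⟩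

/-- `exists_lift` with a morphism of generic fibres. -/
theorem exists_lift' {T G Z : Over (Spec (CommRingCat.of V))} [Flat T.hom] (j : Z ⟶ G)
    [IsClosedImmersion j.left] (a : T ⟶ G) (c : Red.bc (gen K) T ⟶ Red.bc (gen K) Z)
    (hc : c ≫ (Over.pullback (gen K)).map j = (Over.pullback (gen K)).map a) :
    ∃ c' : T ⟶ Z, c' ≫ j = a := by
  refine exists_lift j a (c.left ≫ pullback.fst Z.hom (gen K)) ?_
  have h := congrArg (fun m => m.left ≫ pullback.fst G.hom (gen K)) hc
  simpa only [Over.pullback_map_left, Over.comp_left, Category.assoc, pullback.lift_fst] using h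

end

theorem flat_imageι' [ValuationRing V] {X Y : Scheme.{u}} (q : Y ⟶ Spec (CommRingCat.of V)) (f : X ⟶ Y)
    [Flat (f ≫ q)] : Flat (f.imageι ≫ q) := by
  have : IsZariskiLocalAtSource (@Flat : MorphismProperty Scheme.{u}) :=
    HasRingHomProperty.instIsZariskiLocalAtSource (P := @Flat) (Q := RingHom.Flat)
  rw [IsZariskiLocalAtSource.iff_of_openCover (P := @Flat) f.ker.subschemeCover.openCover]
  suffices H : ∀ W : Y.affineOpens, Flat (f.ker.subschemeCover.f W ≫ f.ker.subschemeι ≫ q) from H
  intro W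
  suffices H : Flat (Spec.map (CommRingCat.ofHom (Ideal.Quotient.mk (f.ker.ideal W))) ≫
      W.2.fromSpec ≫ q) by
    have e := (f.ker.subschemeCover_map_subschemeι W).trans (f.ker.glueDataObjι_ι W)
    rw [← Category.assoc] at H ⊢
    erw [e]
    exact H
  rw [← IsAffineOpen.SpecMap_appLE_fromSpec q (isAffineOpen_top _) W.2
      (show W.1 ≤ q ⁻¹ᵁ ⊤ from le_top), ← Category.assoc, ← Spec.map_comp]
  have : IsIso (isAffineOpen_top (Spec (CommRingCat.of V))).fromSpec := by
    rw [IsAffineOpen.fromSpec_top]; infer_instance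
  suffices Flat (Spec.map (q.appLE ⊤ W.1 (show W.1 ≤ q ⁻¹ᵁ ⊤ from le_top) ≫
      CommRingCat.ofHom (Ideal.Quotient.mk (f.ker.ideal W)))) from inferInstance
  rw [Flat.SpecMap_iff]
  let β : V →+* Γ(Y, W.1) ⧸ f.ker.ideal W := (Ideal.Quotient.mk _).comp (ρ q W.1)
  have hβ : β.Flat := by
    algebraize [β]
    rw [RingHom.Flat, Module.Flat.flat_iff_torsion_eq_bot_of_isBezout, eq_bot_iff]
    rintro x ⟨⟨r, hr⟩, hrx⟩
    obtain ⟨a, rfl⟩ := Ideal.Quotient.mk_surjective x
    rw [Submodule.mem_bot, Ideal.Quotient.eq_zero_iff_mem]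
    refine sat_le_ker q f W ⟨r, nonZeroDivisors.ne_zero hr, ?_⟩
    rw [← Ideal.Quotient.eq_zero_iff_mem, map_mul]
    exact hrx
  have e := RingHom.Flat.comp (RingHom.Flat.of_bijective (ConcreteCategory.bijective_of_isIso
    (Scheme.ΓSpecIso (CommRingCat.of V)).hom)) hβ
  suffices heq : (q.appLE ⊤ W.1 (show W.1 ≤ q ⁻¹ᵁ ⊤ from le_top) ≫
      CommRingCat.ofHom (Ideal.Quotient.mk (f.ker.ideal W))).hom =
      β.comp (Scheme.ΓSpecIso (CommRingCat.of V)).hom.hom by
    rw [heq]; exact e
  refine RingHom.ext fun x ↦ ?_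
  show Ideal.Quotient.mk _ (q.appLE ⊤ W.1 _ x) = Ideal.Quotient.mk _ (q.appLE ⊤ W.1 _
    ((Scheme.ΓSpecIso (CommRingCat.of V)).inv ((Scheme.ΓSpecIso (CommRingCat.of V)).hom x)))
  exact congrArg (fun z ↦ Ideal.Quotient.mk _ (q.appLE ⊤ W.1 _ z))
    ((Scheme.ΓSpecIso (CommRingCat.of V)).hom_inv_id_apply x).symm

variable [ValuationRing V] {K : Type u} [Field K] [Algebra V K] [IsFractionRing V K]

/-- The schematic closure of a subgroup of the generic fibre is a flat closed subgroup. -/
theorem exists_closure (G : Over (Spec (CommRingCat.of V))) [GrpObj G]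
    {H : Over (Spec (CommRingCat.of K))} [GrpObj H] (i : H ⟶ Red.bc (gen K) G) [IsMonHom i]
    [IsClosedImmersion i.left] :
    ∃ (Z : Over (Spec (CommRingCat.of V))) (_ : GrpObj Z) (j : Z ⟶ G) (e : H ≅ Red.bc (gen K) Z),
      IsMonHom j ∧ IsClosedImmersion j.left ∧ Flat Z.hom ∧ IsMonHom e.hom ∧
      e.hom ≫ (Over.pullback (gen K)).map j = i := by
  let t := gen (V := V) K
  let F := Over.pullback t
  let fg := pullback.fst G.hom t
  let a := i.left ≫ fg
  haveI : Flat H.hom := inferInstance
  haveI : Flat (a ≫ G.hom) := by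
    have : a ≫ G.hom = H.hom ≫ t := by
      show (i.left ≫ fg) ≫ G.hom = _
      rw [Category.assoc, pullback.condition, ← Category.assoc]
      exact congrArg (· ≫ t) (Over.w i)
    rw [this]; infer_instance
  let Z : Over (Spec (CommRingCat.of V)) := Over.mk (a.imageι ≫ G.hom)
  let j : Z ⟶ G := Over.homMk a.imageι rfl
  haveI : Flat Z.hom := flat_imageι' G.hom a
  haveI : IsClosedImmersion j.left := inferInstanceAs (IsClosedImmersion a.imageι)
  haveI : Mono j := (Over.forget _).mono_of_mono_map (show Mono j.left from inferInstance)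
  haveI : IsSchemeTheoreticallyDominant a.toImage := ⟨H17.ker_toImage a⟩
  let fz := pullback.fst Z.hom t
  have hsq : IsPullback (F.map j).left fz fg j.left := by
    refine IsPullback.flip ?_
    refine IsPullback.of_bot (v₂₁ := pullback.snd G.hom t) (v₂₂ := G.hom) (h₃₁ := t) ?_ ?_
      (IsPullback.of_hasPullback G.hom t)
    · rw [Over.w j]
      show IsPullback fz ((F.map j).left ≫ pullback.snd G.hom t) Z.hom t
      rw [show (F.map j).left ≫ pullback.snd G.hom t = pullback.snd Z.hom t from Over.w (F.map j)]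
      exact IsPullback.of_hasPullback Z.hom t
    · simp [F, fz, fg]
  haveI : Mono fg := inferInstance
  let el : H.left ⟶ (F.obj Z).left := hsq.lift i.left a.toImage (a.toImage_imageι).symm
  have hel1 : el ≫ (F.map j).left = i.left := hsq.lift_fst _ _ _
  have hel2 : el ≫ fz = a.toImage := hsq.lift_snd _ _ _
  haveI : IsClosedImmersion (F.map j).left := MorphismProperty.of_isPullback hsq.flip inferInstance
  haveI : IsClosedImmersion el := by
    haveI : IsClosedImmersion (el ≫ (F.map j).left) := hel1.symm ▸ inferInstance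
    exact IsClosedImmersion.of_comp el (F.map j).left
  haveI : Mono fz := inferInstance
  haveI : IsSchemeTheoreticallyDominant el := by
    have hp : IsPullback (𝟙 H.left) el a.toImage fz := by
      refine IsPullback.of_isLimit' ⟨by rw [Category.id_comp, hel2]⟩
        (PullbackCone.IsLimit.mk _ (fun s => s.fst) (fun s => Category.comp_id _)
          (fun s => (cancel_mono fz).1 (by rw [Category.assoc, hel2, s.condition])) fun s m h1 _ => ?_)
      simpa using h1
    haveI : Flat fz := inferInstance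
    exact IsSchemeTheoreticallyDominant.of_isPullback hp
  haveI : IsIso el := IsClosedImmersion.isIso_iff_ker_eq_bot.2 (Scheme.Hom.ker_eq_bot _)
  have helw : el ≫ (F.obj Z).hom = H.hom := by
    rw [← Over.w (F.map j), ← Category.assoc, hel1, Over.w i]
  let e : H ≅ F.obj Z := Over.isoMk (asIso el) helw
  have he : e.hom ≫ F.map j = i := Over.OverMorphism.ext hel1
  have hinv : e.inv ≫ i = F.map j := by rw [← he, Iso.inv_hom_id_assoc]
  haveI : Flat (Z ⊗ Z).hom := by
    show Flat (pullback.fst Z.hom Z.hom ≫ Z.hom)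
    infer_instance
  haveI : Flat (𝟙_ (Over (Spec (CommRingCat.of V)))).hom := inferInstanceAs (Flat (𝟙 _))
  obtain ⟨i₀, hi₀⟩ := exists_lift' (K := K) j (j ≫ ι[G]) (e.inv ≫ ι[H] ≫ e.hom) (by
    rw [Category.assoc, Category.assoc, he, GrpObj.inv_hom, ← Category.assoc, hinv, Functor.map_comp]
    rfl)
  obtain ⟨e₀, he₀⟩ := exists_lift' (K := K) j η[G] (inv (Functor.LaxMonoidal.ε F) ≫ η[H] ≫ e.hom) (by
    rw [Category.assoc, Category.assoc, he, IsMonHom.one_hom, IsIso.inv_comp_eq]
    rfl)
  obtain ⟨m₀, hm₀⟩ := exists_lift' (K := K) j ((j ⊗ₘ j) ≫ μ[G])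
    (inv (Functor.LaxMonoidal.μ F Z Z) ≫ (e.inv ⊗ₘ e.inv) ≫ μ[H] ≫ e.hom) (by
    rw [Category.assoc, Category.assoc, Category.assoc, he, IsMonHom.mul_hom, IsIso.inv_comp_eq,
      tensorHom_comp_tensorHom_assoc, hinv, Functor.map_comp]
    refine Eq.trans ?_ (Category.assoc (Functor.LaxMonoidal.μ F Z Z) (F.map (j ⊗ₘ j)) (F.map μ[G]))
    rw [← Functor.LaxMonoidal.μ_natural, Category.assoc]
    rfl)
  obtain ⟨inst, hj⟩ := H19Grp.exists_grpObj_of_mono G j e₀ he₀ m₀ hm₀ i₀ hi₀
  haveI := hj
  haveI : Mono (F.map j) := inferInstance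
  refine ⟨Z, inst, j, e, hj, inferInstance, inferInstance, ?_, he⟩
  constructor
  · rw [← cancel_mono (F.map j), Category.assoc, he, IsMonHom.one_hom, IsMonHom.one_hom]
  · rw [← cancel_mono (F.map j), Category.assoc, he, IsMonHom.mul_hom (f := i), Category.assoc,
      IsMonHom.mul_hom (f := F.map j), tensorHom_comp_tensorHom_assoc, he]

end Groth.Agent.LeadSpec
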