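import Groth.Agent.H7Flat.ValFibre
import Groth.Agent.H7Flat.FibreDim
import Groth.Agent.H8Props.FieldDimFibre
import Groth.Agent.H8Props.FibreDimSemicont
import Groth.Agent.H19Grp.Dimension
import Groth.Agent.H19Grp.GrpToGrpd
import Groth.Agent.H19Grp.Neutral
import Groth.Agent.LeadSpec.Closure

/-!
# Dimensions of the special fibre of a flat group over a valuation ring
-/

set_option autoImplicit false
set_option linter.style.haveILetI false
set_option backward.isDefEq.respectTransparency false

universe u

open CategoryTheory CategoryTheory.Limits MonoidalCategory CartesianMonoidalCategory MonObj GrpObj AlgebraicGeometry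

namespace Groth.Agent.LeadSpec

/-- A scheme over a field is homeomorphic to its fibre. -/
theorem dim_fiber_eq_dim {k : Type u} [Field k] {X : Scheme.{u}} (f : X ⟶ Spec (CommRingCat.of k))
    (y : Spec (CommRingCat.of k)) : topologicalKrullDim (f.fiber y) = topologicalKrullDim X := by
  haveI : Subsingleton (Spec (CommRingCat.of k)) := inferInstanceAs (Subsingleton (PrimeSpectrum k))
  exact IsHomeomorph.topologicalKrullDim_eq _ ((isHomeomorph_iff_isEmbedding_surjective
    (f := f.fiberι y)).2 ⟨Scheme.Hom.isEmbedding _, fun z => (f.range_fiberι y).ge (Subsingleton.elim _ _)⟩)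

theorem dim_pullback_point {S X : Scheme.{u}} (f : X ⟶ S) [LocallyOfFiniteType f] {k : Type u} [Field k]
    (g : Spec (CommRingCat.of k) ⟶ S) (y : Spec (CommRingCat.of k)) :
    topologicalKrullDim ↥(pullback f g) = topologicalKrullDim (f.fiber (g y)) := by
  rw [← H8Props.FieldDim.dim_fiber_baseChange f (IsPullback.of_hasPullback f g) y, dim_fiber_eq_dim]

variable {V : Type u} [CommRing V] [IsDomain V] [ValuationRing V] {K : Type u} [Field K] [Algebra V K]
  [IsFractionRing V K] {k : Type u} [Field k] (π : V →+* k)

omit [ValuationRing V] in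
theorem gen_apply (y : Spec (CommRingCat.of K)) :
    gen (V := V) K y = genericPoint (Spec (CommRingCat.of V)) := by
  haveI : Subsingleton (Spec (CommRingCat.of K)) := inferInstanceAs (Subsingleton (PrimeSpectrum K))
  rw [genericPoint_eq_bot_of_affine]
  refine PrimeSpectrum.ext ?_
  show Ideal.comap (algebraMap V K) y.asIdeal = ⊥
  rw [Ideal.eq_bot_of_prime y.asIdeal, ← RingHom.ker_eq_comap_bot]
  exact (RingHom.injective_iff_ker_eq_bot _).1 (IsFractionRing.injective V K)

theorem special_apply (hπ : RingHom.ker π = IsLocalRing.maximalIdeal V) (y : Spec (CommRingCat.of k)) :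
    Spec.map (CommRingCat.ofHom π) y = IsLocalRing.closedPoint V := by
  refine PrimeSpectrum.ext ?_
  show Ideal.comap π y.asIdeal = IsLocalRing.maximalIdeal V
  rw [Ideal.eq_bot_of_prime y.asIdeal, ← RingHom.ker_eq_comap_bot, hπ]

/-- The dimension of the special fibre is at most that of the generic fibre. -/
theorem dim_special_le (X : Over (Spec (CommRingCat.of V))) [Flat X.hom] [LocallyOfFiniteType X.hom]
    (hπ : RingHom.ker π = IsLocalRing.maximalIdeal V) :
    topologicalKrullDim ↥(Red.bc (Spec.map (CommRingCat.ofHom π)) X).left ≤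
      topologicalKrullDim ↥(Red.bc (gen K) X).left := by
  show topologicalKrullDim ↥(pullback X.hom _) ≤ topologicalKrullDim ↥(pullback X.hom _)
  rw [dim_pullback_point X.hom _ (IsLocalRing.closedPoint k), special_apply π hπ,
    dim_pullback_point X.hom _ (IsLocalRing.closedPoint K), gen_apply]
  exact H7Flat.dim_closed_le_dim_generic X.hom

/-- For a group scheme the dimension of the special fibre is at least that of the generic fibre. -/
theorem le_dim_special (G : Over (Spec (CommRingCat.of V))) [GrpObj G] [LocallyOfFiniteType G.hom]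
    (hπ : RingHom.ker π = IsLocalRing.maximalIdeal V) :
    topologicalKrullDim ↥(Red.bc (gen K) G).left ≤
      topologicalKrullDim ↥(Red.bc (Spec.map (CommRingCat.ofHom π)) G).left := by
  let S := Spec (CommRingCat.of V)
  let e := η[G].left
  have he : ∀ s : S, G.hom (e s) = s := H19Grp.hom_one_apply G
  have hsp : e (genericPoint S) ⤳ e (IsLocalRing.closedPoint V) :=
    ((genericPoint_spec S).specializes trivial).map e.continuous
  have key : topologicalKrullDim ↥(Red.bc (gen K) G).left ≤ FlatMor.fibreDimAt G.hom (e (genericPoint S)) := by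
    show topologicalKrullDim ↥(pullback G.hom _) ≤ _
    rw [dim_pullback_point G.hom _ (IsLocalRing.closedPoint K), gen_apply]
    let Gs : Over (Spec (CommRingCat.of (S.residueField (genericPoint S)))) :=
      (Over.pullback (S.fromSpecResidueField (genericPoint S))).obj G
    letI : GrpObj Gs := Functor.grpObjObj
    haveI : LocallyOfFiniteType Gs.hom :=
      inferInstanceAs (LocallyOfFiniteType (pullback.snd G.hom (S.fromSpecResidueField (genericPoint S))))
    haveI : LocallyOfFiniteType (H19Grp.grpToGrpd Gs).s := inferInstanceAs (LocallyOfFiniteType Gs.hom)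
    haveI : LocallyOfFiniteType (H19Grp.grpToGrpd Gs).t := inferInstanceAs (LocallyOfFiniteType Gs.hom)
    have h := H19Grp.localDim_eq (H19Grp.grpToGrpd Gs) (Iso.refl _)
    have hx : ∀ x, G.hom x = genericPoint S →
        topologicalKrullDim (G.hom.fiber (genericPoint S)) ≤ FlatMor.fibreDimAt G.hom x := by
      rintro x hx
      have key2 : ∀ s, s = G.hom x → (∀ r, FlatMor.localDim (G.hom.fiber s) r = topologicalKrullDim (G.hom.fiber s)) →
          topologicalKrullDim (G.hom.fiber s) ≤ FlatMor.fibreDimAt G.hom x := by
        rintro s rfl hs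
        exact (hs _).ge
      exact key2 _ hx.symm h
    exact hx _ (he _)
  refine key.trans ((H8Props.FieldDim.fibreDimAt_le_of_specializes G.hom hsp).trans ?_)
  show _ ≤ topologicalKrullDim ↥(pullback G.hom _)
  rw [dim_pullback_point G.hom _ (IsLocalRing.closedPoint k), special_apply π hπ]
  exact (H7Flat.dim_fiber_le_iff G.hom _ _).1 le_rfl _ (he _)

end Groth.Agent.LeadSpec
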