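import Groth.Agent.H7Flat.FlatSpread
import Mathlib.AlgebraicGeometry.Morphisms.FinitePresentation
import Mathlib.AlgebraicGeometry.Morphisms.Flat

/-!
# Flat schemes of finite type over a domain are of finite presentation
-/

set_option autoImplicit false

universe u

open CategoryTheory AlgebraicGeometry

namespace Groth.Agent.LeadSpec

theorem finitePresentation_of_flat_domain {A B : Type u} [CommRing A] [IsDomain A] [CommRing B] [Algebra A B]
    [Algebra.FiniteType A B] [Module.Flat A B] : Algebra.FinitePresentation A B := by
  obtain ⟨n, π, hπ⟩ := Algebra.FiniteType.iff_quotient_mvPolynomial''.mp (inferInstance : Algebra.FiniteType A B)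
  letI : Algebra (MvPolynomial (Fin n) A) B := π.toRingHom.toAlgebra
  haveI : IsScalarTower A (MvPolynomial (Fin n) A) B :=
    IsScalarTower.of_algebraMap_eq fun r => (π.commutes r).symm
  haveI : Module.Finite (MvPolynomial (Fin n) A) B :=
    Module.Finite.of_surjective (Algebra.linearMap (MvPolynomial (Fin n) A) B) hπ
  haveI := H7Flat.FlatSpread.fp_of_flat (S := MvPolynomial (Fin n) A)
    (H7Flat.FlatSpread.weakAss_finite_of_isDomain A) B
  exact Algebra.FinitePresentation.of_surjective hπ
    (Module.FinitePresentation.fg_ker (Algebra.linearMap (MvPolynomial (Fin n) A) B) hπ)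

theorem lfp_of_flat_domain {V : Type u} [CommRing V] [IsDomain V] {X : Scheme.{u}}
    (f : X ⟶ Spec (CommRingCat.of V)) [Flat f] [LocallyOfFiniteType f] : LocallyOfFinitePresentation f := by
  let c := X.affineCover
  rw [IsZariskiLocalAtSource.iff_of_openCover (P := @LocallyOfFinitePresentation) c]
  intro i
  haveI : IsOpenImmersion (c.f i) := c.map_prop i
  haveI : Flat (c.f i) := inferInstance
  haveI : Flat (c.f i ≫ f) := inferInstance
  haveI : LocallyOfFiniteType (c.f i) := inferInstance
  haveI : LocallyOfFiniteType (c.f i ≫ f) := inferInstance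
  suffices key : ∀ (B : CommRingCat.{u}) (g : Spec B ⟶ Spec (CommRingCat.of V)), Flat g → LocallyOfFiniteType g →
      LocallyOfFinitePresentation g from key _ (c.f i ≫ f) ‹_› ‹_›
  intro B g hf hft
  obtain ⟨φ, rfl⟩ := Spec.map_surjective g
  rw [HasRingHomProperty.Spec_iff (P := @LocallyOfFinitePresentation)]
  have h1 := (HasRingHomProperty.Spec_iff (P := @LocallyOfFiniteType)).1 hft
  have h2 := (HasRingHomProperty.Spec_iff (P := @Flat)).1 hf
  algebraize [φ.hom]
  exact finitePresentation_of_flat_domain

end Groth.Agent.LeadSpec
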