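import Mathlib.AlgebraicGeometry.Morphisms.Flat
import Mathlib.RingTheory.RingHom.FaithfullyFlat

/-!
# Going down at a point of flatness
-/

set_option autoImplicit false

universe u

open CategoryTheory AlgebraicGeometry

namespace Groth.Agent.LeadSpec

theorem exists_specializes_of_flat_stalkMap {X Y : Scheme.{u}} (f : X ⟶ Y) (x : X)
    (hf : (f.stalkMap x).hom.Flat) {y : Y} (hy : y ⤳ f x) : ∃ x', x' ⤳ x ∧ f x' = y := by
  obtain ⟨q, hq⟩ : y ∈ Set.range (Y.fromSpecStalk (f x)) := by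
    rw [Scheme.range_fromSpecStalk]; exact hy
  algebraize [(f.stalkMap x).hom]
  haveI : IsLocalHom (algebraMap (Y.presheaf.stalk (f x)) (X.presheaf.stalk x)) :=
    inferInstanceAs (IsLocalHom (f.stalkMap x).hom)
  haveI : Module.FaithfullyFlat (Y.presheaf.stalk (f x)) (X.presheaf.stalk x) :=
    Module.FaithfullyFlat.of_flat_of_isLocalHom
  obtain ⟨p, hp⟩ := PrimeSpectrum.comap_surjective_of_faithfullyFlat (B := X.presheaf.stalk x) q
  refine ⟨X.fromSpecStalk x p, ?_, ?_⟩
  · exact (Scheme.range_fromSpecStalk (X := X) (x := x)).le ⟨p, rfl⟩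
  · rw [← Scheme.Hom.comp_apply, ← Scheme.SpecMap_stalkMap_fromSpecStalk, Scheme.Hom.comp_apply, ← hq]
    exact congrArg _ hp

end Groth.Agent.LeadSpec
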