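import Groth.Agent.LeadSpec.Power
import Groth.Agent.LeadSpec.Transfer
import Groth.Agent.LeadSpec.Dim
import Groth.Agent.H19Grp.ImageGroup
import Groth.Agent.H19Grp.ConnFibre
import Groth.Agent.H19Grp.SchDense
import Groth.Agent.H19Grp.PointsEq
import Groth.Agent.H28Neron.Ext

/-!
# Word identities pass to smooth connected subgroups of the special fibre
-/

set_option autoImplicit false
set_option linter.style.haveILetI false
set_option backward.isDefEq.respectTransparency false
set_option synthInstance.maxHeartbeats 200000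
set_option maxHeartbeats 1600000

universe u

open CategoryTheory CategoryTheory.Limits MonoidalCategory CartesianMonoidalCategory MonObj GrpObj AlgebraicGeometry

noncomputable section

namespace Groth.Agent.LeadSpec

theorem flat_pw {S : Scheme.{u}} (Z : Over S) [Flat Z.hom] : ∀ m, Flat (pw Z m).hom
  | 0 => inferInstanceAs (Flat (𝟙 S))
  | m + 1 => by
    haveI := flat_pw Z m
    show Flat (pullback.fst Z.hom (pw Z m).hom ≫ Z.hom)
    infer_instance

theorem smooth_pw {S : Scheme.{u}} (Z : Over S) [Smooth Z.hom] : ∀ m, Smooth (pw Z m).hom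
  | 0 => inferInstanceAs (Smooth (𝟙 S))
  | m + 1 => by
    haveI := smooth_pw Z m
    show Smooth (pullback.fst Z.hom (pw Z m).hom ≫ Z.hom)
    infer_instance

variable {k : Type u} [Field k]

theorem irreducibleSpace_pw (H : Over (Spec (CommRingCat.of k))) [GrpObj H] [Smooth H.hom]
    [ConnectedSpace ↥H.left] : ∀ m, IrreducibleSpace ↥(pw H m).left
  | 0 => by
    show IrreducibleSpace ↥(Spec (CommRingCat.of k))
    exact inferInstanceAs (IrreducibleSpace (PrimeSpectrum k))
  | m + 1 => by
    haveI := irreducibleSpace_pw H m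
    haveI : GeometricallyIrreducible H.hom := H19Grp.geometricallyIrreducible_of_connectedSpace_group H
    show IrreducibleSpace ↥(pullback H.hom (pw H m).hom)
    infer_instance

/-- An identity of the generic fibre of a flat group holds on smooth connected subgroups of the special fibre. -/
theorem identity_special {V : Type u} [CommRing V] [IsDomain V] {K : Type u} [Field K] [Algebra V K]
    [IsFractionRing V K] (Z : Over (Spec (CommRingCat.of V))) [GrpObj Z] [Flat Z.hom] (π : V →+* k)
    {H : Over (Spec (CommRingCat.of k))} [GrpObj H] [Smooth H.hom] [ConnectedSpace ↥H.left]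
    (c : H ⟶ Red.bc (Spec.map (CommRingCat.ofHom π)) Z) [IsMonHom c] [Mono c] (w : FreeGroup ℕ)
    (hw : Identity w (Red.bc (gen (V := V) K) Z)) : Identity w H := by
  obtain ⟨m, w, rfl⟩ := exists_fin w
  rw [identity_map_iff] at hw ⊢
  refine (identity_iff_universal H w).2 ?_
  let sp := Spec.map (CommRingCat.ofHom π)
  let F := Over.pullback (gen (V := V) K)
  let F' := Over.pullback sp
  haveI := flat_pw Z m
  let T := pw Z m
  let a : T ⟶ Z := FreeGroup.lift (pr Z m) w
  have hgen : F.map a = F.map 1 := by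
    rw [Functor.map_one]
    refine Eq.trans ?_ (hw (F.obj T) (fun i => F.map (pr Z m i)))
    exact lift_hom (Functor.homMonoidHom F (X := T) (M := Z)) _ w
  -- an affine neighbourhood of the unit in the special fibre
  let y : Spec (CommRingCat.of k) := IsLocalRing.closedPoint k
  obtain ⟨U, hU, heU, -⟩ := exists_isAffineOpen_mem_and_subset
    (Set.mem_univ (η[Z].left (sp y))) (U := (⊤ : Z.left.Opens))
  haveI : IsAffine U := hU
  let W : T.left.Opens := a.left ⁻¹ᵁ U ⊓ (1 : T ⟶ Z).left ⁻¹ᵁ U
  have hWU : ∀ f : T ⟶ Z, (f = a ∨ f = 1) → Set.range (W.ι ≫ f.left) ⊆ Set.range U.ι := by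
    rintro f hf _ ⟨z, rfl⟩
    rw [Scheme.Opens.range_ι]
    rcases hf with rfl | rfl
    · exact z.2.1
    · exact z.2.2
  let a₁ := IsOpenImmersion.lift U.ι (W.ι ≫ a.left) (hWU a (Or.inl rfl))
  let b₁ := IsOpenImmersion.lift U.ι (W.ι ≫ (1 : T ⟶ Z).left) (hWU 1 (Or.inr rfl))
  have hW : W.ι ≫ a.left = W.ι ≫ (1 : T ⟶ Z).left := by
    haveI : Flat (W.ι ≫ T.hom) := inferInstance
    haveI : IsSeparated (U.ι ≫ Z.hom) := inferInstance
    haveI : IsSchemeTheoreticallyDominant (pullback.fst (W.ι ≫ T.hom) (gen (V := V) K)) :=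
      IsSchemeTheoreticallyDominant.of_isPullback (IsPullback.of_hasPullback (W.ι ≫ T.hom) (gen K)).flip
    have e1 : a₁ ≫ U.ι = W.ι ≫ a.left := IsOpenImmersion.lift_fac _ _ _
    have e2 : b₁ ≫ U.ι = W.ι ≫ (1 : T ⟶ Z).left := IsOpenImmersion.lift_fac _ _ _
    have key : a₁ = b₁ := by
      refine H28Neron.ext_of_schDominant a₁ b₁ (U.ι ≫ Z.hom) ?_ (pullback.fst (W.ι ≫ T.hom) (gen (V := V) K)) ?_
      · rw [← Category.assoc, ← Category.assoc, e1, e2, Category.assoc, Category.assoc, Over.w, Over.w]
      · rw [← cancel_mono U.ι, Category.assoc, Category.assoc, e1, e2]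
        let r : pullback (W.ι ≫ T.hom) (gen (V := V) K) ⟶ pullback T.hom (gen (V := V) K) :=
          pullback.lift (pullback.fst _ _ ≫ W.ι) (pullback.snd _ _) (by rw [Category.assoc, pullback.condition])
        have hr : r ≫ pullback.fst T.hom (gen (V := V) K) = pullback.fst _ _ ≫ W.ι := pullback.lift_fst _ _ _
        have h := congrArg (fun f => r ≫ f.left ≫ pullback.fst Z.hom (gen (V := V) K)) hgen
        simp only [F, Over.pullback_map_left, pullback.lift_fst] at h
        rwa [← Category.assoc, ← Category.assoc, hr, Category.assoc, Category.assoc] at h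
    rw [← e1, ← e2, key]
  -- the special fibre
  obtain ⟨q, hq⟩ := exists_tuple_map F' Z m (fun i => pr H m i ≫ c)
  let A : pw H m ⟶ F'.obj Z := q ≫ F'.map a
  let B : pw H m ⟶ F'.obj Z := 1
  have hB : q ≫ F'.map (1 : T ⟶ Z) = B := by rw [Functor.map_one]; exact MonObj.comp_one q
  have hA : A = FreeGroup.lift (fun i => pr H m i ≫ c) w := by
    show precompHom _ q (Functor.homMonoidHom F' (X := T) (M := Z) a) = _
    rw [lift_hom, lift_hom]
    exact congrArg (fun f => FreeGroup.lift f w) (funext hq)
  let φ : (pw H m).left ⟶ T.left := q.left ≫ pullback.fst T.hom sp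
  let O : (pw H m).left.Opens := φ ⁻¹ᵁ W
  -- the unit lies in `O`
  obtain ⟨u, hu⟩ := exists_tuple H m (fun _ => η[H])
  have huq : ∀ i, (u ≫ q) ≫ F'.map (pr Z m i) = 1 := fun i => by
    rw [Category.assoc, hq i, reassoc_of% hu i, IsMonHom.one_hom, Hom.one_def, toUnit_unit, Category.id_comp]
  have huA : ∀ f : T ⟶ Z, (f = a ∨ f = 1) → (u ≫ q) ≫ F'.map f = 1 := by
    rintro f (rfl | rfl)
    · show precompHom _ (u ≫ q) (Functor.homMonoidHom F' (X := T) (M := Z) a) = _
      rw [lift_hom, lift_hom]
      refine Eq.trans (congrArg (fun g => FreeGroup.lift g w) (funext huq)) ?_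
      show FreeGroup.lift (fun _ => (1 : _ ⟶ F'.obj Z)) w = 1
      exact DFunLike.congr_fun (FreeGroup.ext_hom (FreeGroup.lift fun _ => (1 : _ ⟶ F'.obj Z)) 1
        fun _ => FreeGroup.lift_apply_of) w
    · rw [Functor.map_one, MonObj.comp_one]
  have hmemO : u.left y ∈ O := by
    have key : ∀ f : T ⟶ Z, (f = a ∨ f = 1) → f.left (φ (u.left y)) ∈ U := fun f hf => by
      have h := congrArg (fun g => (g.left ≫ pullback.fst Z.hom sp) y) (huA f hf)
      simp only [Over.comp_left, F', Over.pullback_map_left, Category.assoc, pullback.lift_fst] at h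
      have e : ((1 : 𝟙_ (Over (Spec (CommRingCat.of k))) ⟶ F'.obj Z)).left ≫ pullback.fst Z.hom sp =
          sp ≫ η[Z].left := by
        rw [Hom.one_def, toUnit_unit, Category.id_comp]
        exact H19Grp.bc_one sp Z
      erw [e] at h
      simp only [φ, Scheme.Hom.comp_apply] at h ⊢
      exact (show _ ∈ U from h ▸ heU)
    exact ⟨key a (Or.inl rfl), key 1 (Or.inr rfl)⟩
  haveI := irreducibleSpace_pw H m
  haveI : Smooth (pw H m).hom := smooth_pw H m
  haveI : IsReduced (pw H m).left := by
    haveI : ∀ p, _root_.IsReduced ((pw H m).left.presheaf.stalk p) := fun p => by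
      haveI := H19Grp.isRegularLocalRing_stalk_of_smooth (pw H m).hom p
      haveI := H4Depth.isDomain_of_isRegularLocalRing ((pw H m).left.presheaf.stalk p)
      infer_instance
    exact isReduced_of_isReduced_stalk _
  haveI : IsSeparated (F'.obj Z).hom := H19Grp.PointsDense.isSeparated_grp _
  haveI : IsDominant O.ι := ⟨by
    rw [DenseRange, Scheme.Opens.range_ι]
    exact O.2.dense ⟨_, hmemO⟩⟩
  haveI : IsSchemeTheoreticallyDominant O.ι := .of_isDominant _
  have hAB : A = B := by
    refine Over.OverMorphism.ext (H28Neron.ext_of_schDominant A.left B.left (F'.obj Z).hom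
      (by rw [Over.w, Over.w]) O.ι ?_)
    apply pullback.hom_ext
    · let o := IsOpenImmersion.lift W.ι (O.ι ≫ φ) (by
        rw [Scheme.Opens.range_ι]; rintro _ ⟨z, rfl⟩; exact z.2)
      have ho : o ≫ W.ι = O.ι ≫ φ := IsOpenImmersion.lift_fac _ _ _
      have h := congrArg (o ≫ ·) hW
      simp only [← Category.assoc, ho] at h
      rw [← hB]
      simpa only [A, φ, Over.comp_left, F', Over.pullback_map_left, Category.assoc, pullback.lift_fst]
        using h
    · rw [Category.assoc, Category.assoc]
      exact congrArg (O.ι ≫ ·) ((Over.w A).trans (Over.w B).symm)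
  rw [← cancel_mono c, MonObj.one_comp c]
  refine Eq.trans ?_ hAB
  rw [hA]
  exact lift_hom (IsMonHom.monoidHom c (pw H m)) _ w

end Groth.Agent.LeadSpec
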