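import Groth.Agent.LeadSpec.Setup
import Groth.Agent.H19Grp.NeutralOpen

/-!
# Specialization of the derived group of the identity component
-/

set_option autoImplicit false
set_option linter.style.haveILetI false
set_option backward.isDefEq.respectTransparency false
set_option synthInstance.maxHeartbeats 200000

universe u

open CategoryTheory CategoryTheory.Limits MonoidalCategory CartesianMonoidalCategory MonObj GrpObj AlgebraicGeometry
open Groth.Agent.H19Grp

namespace Groth.Agent.LeadSpec

/-- Two open subgroups with the same underlying set are isomorphic. -/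
theorem exists_grpIso_of_range_eq {S : Scheme.{u}} {A B G : Over S} [GrpObj A] [GrpObj B] [GrpObj G]
    (a : A ⟶ G) [IsMonHom a] [IsOpenImmersion a.left] (b : B ⟶ G) [IsMonHom b] [IsOpenImmersion b.left]
    (h : Set.range a.left = Set.range b.left) :
    ∃ φ : Grp.mk A ≅ Grp.mk B, φ.hom.hom.hom ≫ b = a := by
  haveI : Mono b := (Over.forget S).mono_of_mono_map (show Mono b.left from inferInstance)
  haveI : Mono a := (Over.forget S).mono_of_mono_map (show Mono a.left from inferInstance)
  let e := IsOpenImmersion.isoOfRangeEq a.left b.left h
  have he : e.hom ≫ b.left = a.left := IsOpenImmersion.isoOfRangeEq_hom_fac _ _ _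
  let o : A ≅ B := Over.isoMk e (by rw [← Over.w b, ← Category.assoc, he, Over.w a])
  have ho : o.hom ≫ b = a := Over.OverMorphism.ext he
  haveI : IsMonHom o.hom := by
    constructor
    · rw [← cancel_mono b, Category.assoc, ho, IsMonHom.one_hom, IsMonHom.one_hom]
    · rw [← cancel_mono b, Category.assoc, ho, IsMonHom.mul_hom (f := a), Category.assoc,
        IsMonHom.mul_hom (f := b), tensorHom_comp_tensorHom_assoc, ho]
  exact ⟨Grp.mkIso' o, ho⟩

section

variable {S : Scheme.{u}} (G : Over S) [GrpObj G] (hN : IsOpen (SGA3x.neutralSet G)) [GrpObj (neutralOpen G hN)]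
  [IsMonHom (neutralOpenι G hN)] {K : Type u} [Field K] (x : Spec (CommRingCat.of K) ⟶ S)

instance : IsOpenImmersion ((Over.pullback x).map (neutralOpenι G hN)).left := by
  rw [show ((Over.pullback x).map (neutralOpenι G hN)).left = pullback.map (neutralOpen G hN).hom x G.hom x
    (neutralOpenι G hN).left (𝟙 _) (𝟙 _) (by simp) (by simp) from pullback.hom_ext (by simp) (by simp)]
  infer_instance

theorem range_bc_neutralOpenι [LocallyOfFiniteType G.hom] : Set.range ((Over.pullback x).map (neutralOpenι G hN)).left =
    connectedComponent (α := (Red.bc x G).left) (ept (Red.bc x G)) := by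
  rw [range_bc_map, range_neutralOpenι, preimage_neutralSet_field]

theorem isClosedImmersion_bc_neutralOpenι [LocallyOfFiniteType G.hom] :
    IsClosedImmersion ((Over.pullback x).map (neutralOpenι G hN)).left :=
  IsClosedImmersion.of_isPreimmersion _ (by rw [range_bc_neutralOpenι]; exact isClosed_connectedComponent)

theorem connectedSpace_bc_neutralOpen [LocallyOfFiniteType G.hom] :
    ConnectedSpace ↥(Red.bc x (neutralOpen G hN)).left := by
  rw [connectedSpace_iff_univ]
  have hemb := (Scheme.Hom.isOpenEmbedding ((Over.pullback x).map (neutralOpenι G hN)).left).isInducing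
  exact ⟨⟨(η[Red.bc x (neutralOpen G hN)]).left (IsLocalRing.closedPoint K), trivial⟩, hemb.isPreconnected_image.1 (by
    rw [Set.image_univ, range_bc_neutralOpenι]; exact isPreconnected_connectedComponent)⟩

end

theorem range_eq_component {k : Type u} [Field k] {C G : Over (Spec (CommRingCat.of k))} [GrpObj C] [GrpObj G]
    (c : C ⟶ G) [IsMonHom c] [IsOpenImmersion c.left] [IsClosedImmersion c.left] [ConnectedSpace ↥C.left] :
    Set.range c.left = connectedComponent (α := G.left) (ept G) := by
  have he : ept G ∈ Set.range c.left := ⟨_, hom_one_apply_map c _⟩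
  refine subset_antisymm ?_ ?_
  · exact (isPreconnected_range c.left.continuous).subset_connectedComponent he
  · exact IsClopen.connectedComponent_subset
      ⟨c.left.isClosedEmbedding.isClosed_range, c.left.isOpenEmbedding.isOpen_range⟩ he

end Groth.Agent.LeadSpec
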