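import Groth.Agent.H19Chev.Structure
import Groth.Agent.H19Chev.UnipotentIsogeny
import Groth.Agent.H19Chev.MulSurjective
import Groth.Agent.H25AbCube.Torsion
import Groth.Agent.H20Comod.UniPow

/-!
# Groups without prime-to-characteristic torsion are affine without subtorus
-/

set_option autoImplicit false
set_option linter.style.haveILetI false
set_option backward.isDefEq.respectTransparency false
set_option synthInstance.maxHeartbeats 200000
set_option maxHeartbeats 1000000

universe u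

open CategoryTheory CategoryTheory.Limits MonoidalCategory CartesianMonoidalCategory MonObj GrpObj AlgebraicGeometry
open Groth.Agent WithConv

noncomputable section

namespace Groth.Agent.LeadSpec

theorem subsingleton_of_dim_zero {X : Scheme.{u}} [IsIntegral X] (h : topologicalKrullDim X = 0) :
    Subsingleton X := by
  refine ⟨fun x y => ?_⟩
  have key : ∀ z : X, z = genericPoint X := fun z => by
    by_contra hne
    let T₁ : TopologicalSpace.IrreducibleCloseds X := ⟨closure {z}, isIrreducible_singleton.closure, isClosed_closure⟩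
    let T₂ : TopologicalSpace.IrreducibleCloseds X := ⟨Set.univ, IrreducibleSpace.isIrreducible_univ X, isClosed_univ⟩
    have hlt : T₁ < T₂ := lt_of_le_of_ne (fun a _ => Set.mem_univ a) fun e => hne (by
      have h1 : closure ({z} : Set X) = Set.univ := congrArg SetLike.coe e
      exact ((specializes_iff_mem_closure.2 (h1 ▸ Set.mem_univ (genericPoint X))).antisymm
        (genericPoint_specializes z)).eq)
    have h2 := Order.krullDim_pos_iff.2 ⟨T₁, T₂, hlt⟩
    rw [show Order.krullDim (TopologicalSpace.IrreducibleCloseds X) = topologicalKrullDim X from rfl, h] at h2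
    exact lt_irrefl _ h2
  rw [key x, key y]

variable {k : Type u} [Field k] [IsAlgClosed k]

local notation "Pts" X => 𝟙_ (Over (Spec (CommRingCat.of k))) ⟶ X

theorem pow_surjective_of_exponent {M : Type*} [Group M] {N ℓ : ℕ} (h : ∀ g : M, g ^ N = 1)
    (hco : Nat.Coprime ℓ N) (g : M) : ∃ g' : M, g' ^ ℓ = g := by
  obtain ⟨a, ha⟩ := exists_pow_eq_self_of_coprime (x := g) (hco.of_dvd_right (orderOf_dvd_of_pow_eq_one (h g)))
  exact ⟨g ^ a, by rw [← pow_mul, mul_comm, pow_mul, ha]⟩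

/-- Points of a smooth connected unipotent group are uniquely divisible away from the characteristic. -/
theorem pow_bijective {U : Over (Spec (CommRingCat.of k))} [GrpObj U] [IsAffine U.left]
    [ConnectedSpace ↥U.left] [Smooth U.hom] (hU : Red.HasNoSubtorus k U) (ℓ : ℕ) (hℓ : (ℓ : k) ≠ 0) :
    Function.Bijective fun y : Pts U => y ^ ℓ := by
  obtain ⟨B, _, _, hft, _, hB, ⟨es⟩⟩ := H20Torus.exists_isUnipotent_model U hU
  let e : U ≅ CoactBr.sp k B := (Grp.forget _).mapIso es
  haveI : IsMonHom e.inv := es.inv.hom.isMonHom_hom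
  have hbij : Function.Bijective fun g : WithConv (B →ₐ[k] k) => g ^ ℓ := by
    obtain ⟨p, hp⟩ := CharP.exists k
    rcases CharP.char_is_prime_or_zero k p with hpr | h0
    · haveI := Fact.mk hpr
      obtain ⟨m, hm⟩ := H20Comod.exists_pow_char_pow_eq_one (S := k) hB p
      have hco : Nat.Coprime ℓ (p ^ m) := Nat.Coprime.pow_right m (Nat.Coprime.symm
        ((Nat.Prime.coprime_iff_not_dvd hpr).2 fun hd => hℓ ((CharP.cast_eq_zero_iff k p ℓ).2 hd)))
      refine ⟨fun g g' h => ?_, pow_surjective_of_exponent hm hco⟩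
      obtain ⟨u, v, huv⟩ := Int.isCoprime_iff_nat_coprime.2 (by simpa using hco : Nat.Coprime (ℓ : ℤ).natAbs ((p ^ m : ℕ) : ℤ).natAbs)
      have key : ∀ g : WithConv (B →ₐ[k] k), (g ^ ℓ) ^ u = g := fun g => by
        conv_rhs => rw [← zpow_one g, ← huv, zpow_add, zpow_mul, zpow_mul', zpow_natCast, zpow_natCast, hm,
          one_zpow, _root_.mul_one]
        rw [← zpow_natCast, ← zpow_natCast, ← zpow_mul, ← zpow_mul, mul_comm]
      rw [← key g, ← key g', show g ^ ℓ = g' ^ ℓ from h]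
    · subst h0
      haveI : CharZero k := CharP.charP_to_charZero k
      exact H20Comod.pow_bijective_of_charZero hB ℓ (by rintro rfl; simp at hℓ)
  let Ψ : WithConv (B →ₐ[k] k) → Pts U := fun g => H19Chev.UnipotentIsogeny.unitIso.hom ≫ CoactBr.pt g.ofConv ≫ e.inv
  have hΨ : Function.Bijective Ψ := by
    refine ⟨fun g g' h => WithConv.ofConv_injective (CoactBr.pt_injective ?_), fun x => ?_⟩
    · exact (cancel_mono e.inv).1 ((cancel_epi _).1 h)
    · obtain ⟨φ, hφ⟩ := H19Chev.UnipotentIsogeny.exists_pt_eq' (H19Chev.UnipotentIsogeny.unitIso.inv ≫ x ≫ e.hom)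
      refine ⟨toConv φ, ?_⟩
      show H19Chev.UnipotentIsogeny.unitIso.hom ≫ CoactBr.pt (toConv φ).ofConv ≫ e.inv = x
      rw [WithConv.ofConv_toConv, hφ]
      simp
  have hpow : ∀ g, Ψ (g ^ ℓ) = Ψ g ^ ℓ := fun g => by
    show H19Chev.UnipotentIsogeny.unitIso.hom ≫ CoactBr.pt (g ^ ℓ).ofConv ≫ e.inv = (H19Chev.UnipotentIsogeny.unitIso.hom ≫ _) ^ ℓ
    rw [H19Chev.UnipotentIsogeny.comp_pow', show (CoactBr.pt g.ofConv ≫ e.inv) ^ ℓ = H19Chev.UnipotentIsogeny.postHom e.inv (CoactBr.pt g.ofConv) ^ ℓ from rfl,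
      ← map_pow, H19Chev.UnipotentIsogeny.pt_pow]
    rfl
  have hc : (fun y : Pts U => y ^ ℓ) ∘ Ψ = Ψ ∘ fun g => g ^ ℓ := funext fun g => (hpow g).symm
  exact (Function.Bijective.of_comp_iff _ hΨ).1 (hc ▸ hΨ.comp hbij)

/-- A smooth connected group without points of a prime order invertible in the field is affine and has no
subtorus. -/
theorem isAffine_and_hasNoSubtorus (G : Over (Spec (CommRingCat.of k))) [GrpObj G] [Smooth G.hom]
    [QuasiCompact G.hom] [ConnectedSpace ↥G.left] (ℓ : ℕ) (hℓ : ℓ.Prime) (hℓk : (ℓ : k) ≠ 0)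
    (h : ∀ x : Pts G, x ^ ℓ = 1 → x = 1) : IsAffine G.left ∧ Red.HasNoSubtorus k G := by
  haveI := Fact.mk hℓ
  have hnt : ∀ (L : Over (Spec (CommRingCat.of k))) [GrpObj L] (l : L ⟶ G) [IsMonHom l] [Mono l],
      Red.HasNoSubtorus k L := by
    intro L _ l _ _ T _ j _ _ hT
    by_contra hne
    obtain ⟨x, hx⟩ := H19Chev.UnipotentIsogeny.exists_orderOf_eq hT hne ℓ hℓk
    have h1 : x ≫ j ≫ l = 1 := h _ (by
      rw [show (x ≫ j ≫ l) ^ ℓ = H19Chev.UnipotentIsogeny.postHom (j ≫ l) x ^ ℓ from rfl, ← map_pow, ← hx, pow_orderOf_eq_one,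
        map_one])
    have h2 : x = 1 := (cancel_mono (j ≫ l)).1 (h1.trans (MonObj.one_comp (j ≫ l)).symm)
    rw [h2, orderOf_one] at hx
    exact hℓ.one_lt.ne hx
  refine ⟨?_, hnt G (𝟙 G)⟩
  obtain ⟨L, _, l, Q, _, q, hl, hlc, hLa, hLs, hLn, hln, hq, hqs, hqf, hqp, hk, hQp, hQs, hQn⟩ :=
    H19Chev.exists_chevalley G
  haveI := hl; haveI := hlc; haveI := hLa; haveI := hLs; haveI := hLn
  haveI := hq; haveI := hqs; haveI := hQp; haveI := hQs; haveI := hQn
  haveI : Mono l := Over.mono_of_mono_left _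
  haveI := H19Chev.geometricallyIntegral_av Q
  haveI : IsCommMonObj Q := H25AbCube.isCommMonObj_of_av
  have hLu := hnt L l
  have hQt : ∀ y : Pts Q, y ^ ℓ = 1 → y = 1 := by
    intro y hy
    obtain ⟨g, hg⟩ := H19Chev.UnipotentIsogeny.exists_pt_lift q y
    obtain ⟨b, hb⟩ := H19Grp.kernel_lift hk (g ^ ℓ) (by
      rw [show (g ^ ℓ) ≫ q = H19Chev.UnipotentIsogeny.postHom q (g ^ ℓ) from rfl, map_pow, show H19Chev.UnipotentIsogeny.postHom q g = y from hg, hy])
    obtain ⟨a, ha⟩ := (pow_bijective hLu ℓ hℓk).2 b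
    obtain ⟨a', ha'⟩ := hln _ g a
    replace ha : a ^ ℓ = b := ha
    have hga : Commute g (a ≫ l) := by
      have e : a' = a := (pow_bijective hLu ℓ hℓk).1 (show a' ^ ℓ = a ^ ℓ from (cancel_mono l).1 (by
        rw [show (a' ^ ℓ) ≫ l = H19Chev.UnipotentIsogeny.postHom l (a' ^ ℓ) from rfl, map_pow, show H19Chev.UnipotentIsogeny.postHom l a' = _ from ha'.symm,
          conj_pow, show (a ≫ l) ^ ℓ = H19Chev.UnipotentIsogeny.postHom l a ^ ℓ from rfl, ← map_pow, ha,
          show H19Chev.UnipotentIsogeny.postHom l b = g ^ ℓ from hb,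
          show b ≫ l = g ^ ℓ from hb]
        group))
      have h4 : g * (a ≫ l) * g⁻¹ = a ≫ l := ha'.trans (congrArg (· ≫ l) e)
      exact mul_inv_eq_iff_eq_mul.1 h4
    have h1 : g * (a ≫ l)⁻¹ = 1 := h _ (by
      rw [hga.inv_right.mul_pow, inv_pow, show (a ≫ l) ^ ℓ = H19Chev.UnipotentIsogeny.postHom l a ^ ℓ from rfl, ← map_pow, ha,
        show H19Chev.UnipotentIsogeny.postHom l b = g ^ ℓ from hb, mul_inv_cancel])
    rw [← hg, mul_inv_eq_one.1 h1, Category.assoc, H19Grp.kernel_comp_eq_one hk, MonObj.comp_one]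
  haveI : LocallyOfFiniteType Q.hom := inferInstance
  haveI : Nonempty Q.left := ⟨η[Q].left (IsLocalRing.closedPoint k)⟩
  haveI : IsIntegral Q.left := GeometricallyIntegral.isIntegral_of_subsingleton Q.hom
  obtain ⟨d, hd⟩ := H25Grp.exists_nat_dim Q.hom
  have hd0 : d = 0 := by
    by_contra hne
    have hc := H25AbCube.card_torsPts (A := Q) hℓk d hd
    have h1 : 1 < ℓ ^ (2 * d) := Nat.one_lt_pow (by omega) hℓ.one_lt
    rw [← hc] at h1
    haveI : Subsingleton ↥(AbDual.torsPts Q ℓ (Over.mk (𝟙 (Spec (CommRingCat.of k))))) :=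
      ⟨fun u v => Subtype.ext ((hQt u.1 u.2).trans (hQt v.1 v.2).symm)⟩
    rw [Nat.card_of_subsingleton ⟨1, one_mem _⟩] at h1
    omega
  subst hd0
  haveI : Subsingleton Q.left := subsingleton_of_dim_zero (by simpa using hd)
  haveI : IsReduced Q.left := inferInstance
  haveI : IsClosedImmersion η[Q].left := isClosedImmersion_of_comp_eq_id Q.hom η[Q].left (Over.w η[Q])
  haveI : Surjective η[Q].left := ⟨fun p => ⟨IsLocalRing.closedPoint k, Subsingleton.elim _ _⟩⟩
  haveI := isIso_of_isClosedImmersion_of_surjective η[Q].left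
  haveI : IsIso η[Q] := by
    haveI : IsIso ((Over.forget _).map η[Q]) := ‹IsIso η[Q].left›
    exact isIso_of_reflects_iso η[Q] (Over.forget _)
  obtain ⟨s, hs⟩ := H19Grp.kernel_lift hk (𝟙 G) (by
    rw [Category.id_comp, ← cancel_mono (inv η[Q]), Hom.one_def, Category.assoc, IsIso.hom_inv_id,
      Category.comp_id]
    exact toUnit_unique _ _)
  haveI : IsIso l := ⟨s, (cancel_mono l).1 (by rw [Category.assoc, hs, Category.id_comp, Category.comp_id]), hs⟩
  haveI : IsIso (inv l).left := inferInstanceAs (IsIso ((Over.forget _).map (inv l)))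
  exact IsAffine.of_isIso (inv l).left

end Groth.Agent.LeadSpec
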