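import Groth.Agent.LeadSpec.Words
import Groth.Agent.H19Grp.EtaleEndo
import Groth.Agent.H19Grp.Cartier
import Groth.Agent.H19Grp.GoodQuot
import Groth.Agent.H17.LocusBC

/-!
# Power maps of nilpotent groups are etale away from the characteristic
-/

set_option autoImplicit false
set_option linter.style.haveILetI false
set_option backward.isDefEq.respectTransparency false
set_option synthInstance.maxHeartbeats 200000
set_option maxHeartbeats 1000000

universe u

open CategoryTheory CategoryTheory.Limits MonoidalCategory CartesianMonoidalCategory MonObj GrpObj AlgebraicGeometry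
open Groth.Agent.H19Grp
open scoped commutatorElement

namespace Groth.Agent.LeadSpec

section Group

variable {Γ : Type*} [Group Γ]

theorem lift_nword_eq_iterate (x : Γ) : ∀ (n : ℕ) (a : ℕ → Γ), (∀ i, a (i + 1) = x) →
    FreeGroup.lift a (nword n) = (fun u => ⁅u, x⁆)^[n] (a 0) := by
  intro n
  induction n with
  | zero => intro a _; simp [nword]
  | succ n ih =>
    intro a ha
    have h := ih (fun i => if i = 0 then ⁅a 0, a 1⁆ else a (i + 1)) fun i => by simp [ha (i + 1)]
    simp only [reduceIte, ha 0] at h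
    rw [Function.iterate_succ_apply, ← h]
    simp only [nword]
    rw [← MonoidHom.comp_apply]
    refine DFunLike.congr_fun (FreeGroup.ext_hom _ _ fun i => ?_) _
    simp only [MonoidHom.comp_apply, FreeGroup.lift_apply_of]
    split_ifs <;> simp [map_commutatorElement, ha 0]

theorem eq_one_of_mul_pow_eq (M : Subgroup Γ) [hM : M.Normal] (hcomm : ∀ a ∈ M, ∀ b ∈ M, a * b = b * a) (ℓ : ℕ)
    (htf : ∀ a ∈ M, a ^ ℓ = 1 → a = 1) (n : ℕ) (hn : Holds (nword n) Γ) (x : Γ) {d : Γ} (hd : d ∈ M)
    (h : (d * x) ^ ℓ = x ^ ℓ) : d = 1 := by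
  let c : Γ → Γ := fun u => ⁅u, x⁆
  let P : ℕ → Γ → Γ := fun k u => (u * x) ^ k * (x ^ k)⁻¹
  have hP : ∀ k u, P (k + 1) u = u * (x * P k u * x⁻¹) := fun k u => by
    simp only [P, pow_succ', _root_.mul_inv_rev]; group
  have hPM : ∀ k, ∀ u ∈ M, P k u ∈ M := by
    intro k
    induction k with
    | zero => intro u _; simp [P]
    | succ k ih => intro u hu; rw [hP]; exact mul_mem hu (hM.conj_mem _ (ih u hu) x)
  have hPmul : ∀ k, ∀ u ∈ M, ∀ v ∈ M, P k (u * v) = P k u * P k v := by
    intro k
    induction k with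
    | zero => intro u _ v _; simp [P]
    | succ k ih =>
      intro u hu v hv
      rw [hP, hP, hP, ih u hu v hv]
      have h1 := hcomm (x * P k u * x⁻¹) (hM.conj_mem _ (hPM k u hu) x) v hv
      calc u * v * (x * (P k u * P k v) * x⁻¹)
          = u * (v * (x * P k u * x⁻¹)) * (x * P k v * x⁻¹) := by group
        _ = u * (x * P k u * x⁻¹ * v) * (x * P k v * x⁻¹) := by rw [h1]
        _ = _ := by group
  have hPconj : ∀ k u, P k (x * u * x⁻¹) = x * P k u * x⁻¹ := by
    intro k
    induction k with
    | zero => intro u; simp [P]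
    | succ k ih => intro u; rw [hP, hP, ih]; group
  have hone : P ℓ (1 : Γ) = 1 := by simp [P]
  have hcM : ∀ u ∈ M, c u ∈ M := fun u hu => by
    rw [show c u = u * (x * u⁻¹ * x⁻¹) from by simp only [c, commutatorElement_def]; group]
    exact mul_mem hu (hM.conj_mem _ (inv_mem hu) x)
  have hitM : ∀ j, c^[j] d ∈ M := by
    intro j
    induction j with
    | zero => exact hd
    | succ j ih => rw [Function.iterate_succ_apply']; exact hcM _ ih
  have hit : ∀ j, P ℓ (c^[j] d) = 1 := by
    intro j
    induction j with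
    | zero => simp [P, h]
    | succ j ih =>
      rw [Function.iterate_succ_apply',
        show c (c^[j] d) = c^[j] d * (x * (c^[j] d)⁻¹ * x⁻¹) from by simp only [c, commutatorElement_def]; group,
        hPmul _ _ (hitM j) _ (hM.conj_mem _ (inv_mem (hitM j)) x), hPconj, ih]
      have h1 := hPmul ℓ _ (hitM j) _ (inv_mem (hitM j))
      rw [mul_inv_cancel, hone, ih, _root_.one_mul] at h1
      rw [← h1]
      group
  have hstep : ∀ u ∈ M, P ℓ u = 1 → c u = 1 → u = 1 := fun u hu hPu hcu => by
    have hcx : Commute u x := commutatorElement_eq_one_iff_commute.1 hcu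
    refine htf u hu ?_
    have : P ℓ u = u ^ ℓ := by simp [P, hcx.mul_pow]
    rw [← this, hPu]
  have hend : c^[n] d = 1 := by
    have e1 := lift_nword_eq_iterate x n (fun i => if i = 0 then d else x) (fun i => by simp)
    simp only [reduceIte] at e1
    exact e1.symm.trans (hn _)
  have key : ∀ j, c^[n - j] d = 1 := by
    intro j
    induction j with
    | zero => simpa using hend
    | succ j ih =>
      by_cases hj : n ≤ j
      · rwa [Nat.sub_eq_zero_of_le (hj.trans j.le_succ), ← Nat.sub_eq_zero_of_le hj]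
      · refine hstep _ (hitM _) (hit _) ?_
        rw [← Function.iterate_succ_apply' c, show (n - (j + 1)).succ = n - j by omega]
        exact ih
  simpa using key n

end Group

variable {k : Type u} [Field k]

theorem tangent_mul_comm {G : Over (Spec (CommRingCat.of k))} [GrpObj G] (x y : TangentPow.sqz k k ⟶ G)
    (hx : TangentPow.red k k ≫ x = 1) (hy : TangentPow.red k k ≫ y = 1) : x * y = y * x := by
  let a := TangentPow.sqzMap (LinearMap.inl k k k)
  let b := TangentPow.sqzMap (LinearMap.inr k k k)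
  have ha : TangentPow.red k (k × k) ≫ a = TangentPow.red k k := TangentPow.red_sqzMap _
  have hb : TangentPow.red k (k × k) ≫ b = TangentPow.red k k := TangentPow.red_sqzMap _
  have e : (a ≫ x) * (b ≫ y) = (b ≫ y) * (a ≫ x) := by
    refine TangentPow.ext_of_jointly_injective _ _ ?_
      (fun t : Bool => if t then LinearMap.fst k k k else LinearMap.snd k k k) ?_ true ?_
    · rw [MonObj.comp_mul, MonObj.comp_mul, ← Category.assoc, ← Category.assoc, ha, hb, hx, hy]
    · intro m hm
      exact Prod.ext (by simpa using hm true) (by simpa using hm false)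
    · intro t
      simp only [MonObj.comp_mul, a, b, ← Category.assoc, TangentPow.sqzMap_comp]
      cases t
      · simp [LinearMap.snd_comp_inl, LinearMap.snd_comp_inr, TangentPow.sqzMap_zero_comp hx]
      · simp [LinearMap.fst_comp_inl, LinearMap.fst_comp_inr, TangentPow.sqzMap_zero_comp hy]
  have h := congrArg (TangentPow.sqzMap (LinearMap.fst k k k + LinearMap.snd k k k) ≫ ·) e
  simp only [MonObj.comp_mul, a, b, ← Category.assoc, TangentPow.sqzMap_comp] at h
  rw [show (LinearMap.fst k k k + LinearMap.snd k k k) ∘ₗ LinearMap.inl k k k = LinearMap.id from by ext; simp,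
    show (LinearMap.fst k k k + LinearMap.snd k k k) ∘ₗ LinearMap.inr k k k = LinearMap.id from by ext; simp,
    TangentPow.sqzMap_id, Category.id_comp, Category.id_comp] at h
  exact h

/-- The power map of a nilpotent group is flat at every rational point if the exponent is invertible. -/
theorem flat_pow_stalkMap [IsAlgClosed k] (G : Over (Spec (CommRingCat.of k))) [GrpObj G]
    [LocallyOfFiniteType G.hom] (n : ℕ) (hn : Identity (nword n) G) (ℓ : ℕ) (hℓ : (ℓ : k) ≠ 0)
    (a : 𝟙_ (Over (Spec (CommRingCat.of k))) ⟶ G) :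
    ((𝟙 G ^ ℓ : G ⟶ G).left.stalkMap (a.left (IsLocalRing.closedPoint k))).hom.Flat := by
  let f : G ⟶ G := 𝟙 G ^ ℓ
  let pt := IsLocalRing.closedPoint k
  have hx : IsClosed ({a.left pt} : Set G.left) := H19Grp.isClosed_range_of_section a.left (Over.w a)
  have hfx : IsClosed ({f.left (a.left pt)} : Set G.left) :=
    H19Grp.isClosed_range_of_section (a ≫ f).left (Over.w (a ≫ f))
  obtain ⟨e₁, he₁⟩ := exists_iso_unitPt G _ hx
  obtain ⟨e₂, he₂⟩ := exists_iso_unitPt G _ hfx
  haveI : IsIso (e₁.symm ≪≫ e₂).hom.left :=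
    inferInstanceAs (IsIso ((Over.forget _).map (e₁.symm ≪≫ e₂).hom))
  have hy : (e₁.symm ≪≫ e₂).hom.left (a.left pt) = f.left (a.left pt) := by
    rw [← he₂, ← he₁, ← Scheme.Hom.comp_apply, ← Over.comp_left]
    simp
  let e : G.left.presheaf.stalk (f.left (a.left pt)) ≅ G.left.presheaf.stalk (a.left pt) :=
    G.left.presheaf.stalkCongr (.of_eq hy.symm) ≪≫ asIso ((e₁.symm ≪≫ e₂).hom.left.stalkMap _)
  obtain ⟨U, hU, hUe⟩ := etale_nhd_endo f a e fun v hv1 hv2 => by
    let T := TangentPow.sqz k k
    let x : T ⟶ G := toUnit T ≫ a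
    let φ : (T ⟶ G) →* (𝟙_ (Over (Spec (CommRingCat.of k))) ⟶ G) :=
      MonoidHom.mk' (fun z => TangentPow.red k k ≫ z) fun z z' => MonObj.comp_mul _ _ _
    have hd : v * x⁻¹ ∈ φ.ker := by
      show TangentPow.red k k ≫ (v * x⁻¹) = 1
      rw [MonObj.comp_mul, GrpObj.comp_inv, hv1, ← Category.assoc,
        toUnit_unique (TangentPow.red k k ≫ toUnit _) (𝟙 _), Category.id_comp, mul_inv_cancel]
    refine mul_inv_eq_one.1 (eq_one_of_mul_pow_eq φ.ker (fun b hb b' hb' => tangent_mul_comm b b' hb hb') ℓ
      (fun b hb hbℓ => TangentPow.eq_one_of_zpow_eq_one hb ℓ (by simpa using hℓ) (by simpa using hbℓ))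
      n (hn T) x hd ?_)
    rw [inv_mul_cancel_right]
    have h2 : v ≫ f = x ≫ f := hv2
    simpa only [f, MonObj.comp_pow, Category.comp_id] using h2
  haveI := hUe
  obtain ⟨z, hz⟩ : a.left pt ∈ Set.range U.ι := by rw [Scheme.Opens.range_ι]; exact hU
  rw [← hz]
  exact (H17.LocusBC.flat_stalkMap_comp_iff U.ι f.left (𝟙 _) (U.ι ≫ f.left) (Category.comp_id _) z).1
    (Flat.stalkMap _ z)

end Groth.Agent.LeadSpec
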