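import Groth.Agent.LeadSpec.Words

/-!
# Finite powers and universal points
-/

set_option autoImplicit false
set_option linter.style.haveILetI false

universe u v

open CategoryTheory MonoidalCategory CartesianMonoidalCategory MonObj GrpObj

noncomputable section

namespace Groth.Agent.LeadSpec

section Obj

variable {C : Type u} [Category.{v} C] [CartesianMonoidalCategory C]

/-- Finite powers. -/
def pw (Z : C) : ℕ → C
  | 0 => 𝟙_ C
  | m + 1 => Z ⊗ pw Z m

/-- The projections. -/
def pr (Z : C) : ∀ m, Fin m → (pw Z m ⟶ Z)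
  | 0 => Fin.elim0
  | m + 1 => Fin.cases (fst Z (pw Z m)) (fun i => snd Z (pw Z m) ≫ pr Z m i)

theorem exists_tuple (Z : C) : ∀ (m : ℕ) {T : C} (x : Fin m → (T ⟶ Z)), ∃ t : T ⟶ pw Z m, ∀ i, t ≫ pr Z m i = x i
  | 0, T, x => ⟨toUnit T, fun i => i.elim0⟩
  | m + 1, T, x => by
    obtain ⟨t, ht⟩ := exists_tuple Z m (fun i => x i.succ)
    refine ⟨lift (x 0) t, fun i => ?_⟩
    induction i using Fin.cases with
    | zero => show lift (x 0) t ≫ fst Z (pw Z m) = x 0; simp
    | succ i => show lift (x 0) t ≫ snd Z (pw Z m) ≫ pr Z m i = _; simp [ht i]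

theorem exists_tuple_map {D : Type u} [Category.{v} D] [CartesianMonoidalCategory D] (F : C ⥤ D) [F.Monoidal]
    (Z : C) : ∀ (m : ℕ) {T : D} (x : Fin m → (T ⟶ F.obj Z)),
      ∃ q : T ⟶ F.obj (pw Z m), ∀ i, q ≫ F.map (pr Z m i) = x i
  | 0, T, x => ⟨toUnit T ≫ Functor.LaxMonoidal.ε F, fun i => i.elim0⟩
  | m + 1, T, x => by
    obtain ⟨q, hq⟩ := exists_tuple_map F Z m (fun i => x i.succ)
    refine ⟨lift (x 0) q ≫ Functor.LaxMonoidal.μ F Z (pw Z m), fun i => ?_⟩
    induction i using Fin.cases with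
    | zero =>
      show (lift (x 0) q ≫ Functor.LaxMonoidal.μ F Z (pw Z m)) ≫ F.map (fst Z (pw Z m)) = x 0
      simp
    | succ i =>
      show (lift (x 0) q ≫ Functor.LaxMonoidal.μ F Z (pw Z m)) ≫
        F.map (snd Z (pw Z m) ≫ pr Z m i) = _
      simp [hq i]

theorem lift_hom {Γ Δ : Type*} [Group Γ] [Group Δ] {J : Type} (f : Γ →* Δ) (x : J → Γ) (w : FreeGroup J) :
    f (FreeGroup.lift x w) = FreeGroup.lift (fun j => f (x j)) w := by
  rw [← MonoidHom.comp_apply]
  exact DFunLike.congr_fun (FreeGroup.ext_hom _ _ fun a => by simp) w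

/-- Precomposition as a homomorphism. -/
def precompHom (G : C) [GrpObj G] {X Y : C} (f : X ⟶ Y) : (Y ⟶ G) →* (X ⟶ G) where
  toFun g := f ≫ g
  map_one' := MonObj.comp_one f
  map_mul' g h := MonObj.comp_mul f g h

/-- An identity needs to be checked only on the universal point. -/
theorem identity_iff_universal (G : C) [GrpObj G] {m : ℕ} (w : FreeGroup (Fin m)) :
    Identity w G ↔ FreeGroup.lift (pr G m) w = 1 := by
  refine ⟨fun h => h _ _, fun h X x => ?_⟩
  obtain ⟨t, ht⟩ := exists_tuple G m x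
  have := congrArg (precompHom G t) h
  rw [lift_hom, map_one] at this
  rw [← this]
  exact congrArg (fun f => FreeGroup.lift f w) (funext fun i => (ht i).symm)

theorem exists_fin (w : FreeGroup ℕ) : ∃ (m : ℕ) (w₀ : FreeGroup (Fin m)), FreeGroup.map Fin.val w₀ = w := by
  induction w using FreeGroup.induction_on with
  | C1 => exact ⟨0, 1, map_one _⟩
  | of a => exact ⟨a + 1, FreeGroup.of ⟨a, a.lt_succ_self⟩, by simp⟩
  | inv_of a ha => obtain ⟨m, w₀, h⟩ := ha; exact ⟨m, w₀⁻¹, by rw [map_inv, h]⟩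
  | mul a b ha hb =>
    obtain ⟨m, u₀, hu⟩ := ha
    obtain ⟨n, v₀, hv⟩ := hb
    refine ⟨max m n, FreeGroup.map (Fin.castLE (le_max_left _ _)) u₀ *
      FreeGroup.map (Fin.castLE (le_max_right _ _)) v₀, ?_⟩
    rw [map_mul, FreeGroup.map.comp, FreeGroup.map.comp, ← hu, ← hv]
    rfl

theorem identity_map_iff (G : C) [GrpObj G] {m : ℕ} (w : FreeGroup (Fin m)) :
    Identity (FreeGroup.map Fin.val w) G ↔ Identity w G := by
  refine forall_congr' fun X => ⟨fun h x => ?_, fun h x => by rw [lift_map']; exact h _⟩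
  have := h (fun i => if hi : i < m then x ⟨i, hi⟩ else 1)
  rw [lift_map'] at this
  refine Eq.trans ?_ this
  exact congrArg (fun f => FreeGroup.lift f w) (funext fun i => by simp)

theorem identity_of_iso {G G' : C} [GrpObj G] [GrpObj G'] {J : Type} {w : FreeGroup J} (h : Identity w G)
    (j : G' ⟶ G) [IsMonHom j] [Mono j] : Identity w G' := by
  intro X x
  have := h X (fun i => x i ≫ j)
  rw [← cancel_mono j, MonObj.one_comp j]
  refine Eq.trans ?_ this
  exact lift_hom (IsMonHom.monoidHom j X) x w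

end Obj

end Groth.Agent.LeadSpec
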