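import Groth.Agent.H9CI.RegLocal
import Groth.Agent.H4Depth.Regular
import Mathlib.RingTheory.DiscreteValuationRing.TFAE
import Mathlib.RingTheory.Valuation.LocalSubring
import Mathlib.RingTheory.Localization.FractionRing

/-!
# Valuation rings centred on a regular local ring with trivial residue extension
-/

set_option autoImplicit false
set_option linter.style.haveILetI false

universe u

open IsLocalRing

noncomputable section

namespace Groth.Agent.LeadSpec

/-- Composite places. -/
theorem exists_comp_valuation {K L : Type u} [Field K] [Field L] (V : ValuationSubring K) (ρ : V →+* L)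
    (hker : RingHom.ker ρ = maximalIdeal V) (W : ValuationSubring L) :
    ∃ (V' : ValuationSubring K) (hle : V' ≤ V), ∀ y : V, (y : K) ∈ V' ↔ ρ y ∈ W := by
  have hz : ∀ y : V, ¬ IsUnit y → ρ y = 0 := fun y hy => by
    rw [← RingHom.mem_ker, hker]; exact hy
  let V' : ValuationSubring K :=
    { carrier := {y | ∃ h : y ∈ V, ρ ⟨y, h⟩ ∈ W}
      mul_mem' := fun ⟨ha, ha'⟩ ⟨hb, hb'⟩ => ⟨mul_mem ha hb, by
        rw [show (⟨_, mul_mem ha hb⟩ : V) = ⟨_, ha⟩ * ⟨_, hb⟩ from rfl, map_mul]; exact mul_mem ha' hb'⟩
      one_mem' := ⟨one_mem _, by rw [show (⟨1, one_mem _⟩ : V) = 1 from rfl, map_one]; exact one_mem _⟩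
      add_mem' := fun ⟨ha, ha'⟩ ⟨hb, hb'⟩ => ⟨add_mem ha hb, by
        rw [show (⟨_, add_mem ha hb⟩ : V) = ⟨_, ha⟩ + ⟨_, hb⟩ from rfl, map_add]; exact add_mem ha' hb'⟩
      zero_mem' := ⟨zero_mem _, by rw [show (⟨0, zero_mem _⟩ : V) = 0 from rfl, map_zero]; exact zero_mem _⟩
      neg_mem' := fun ⟨ha, ha'⟩ => ⟨neg_mem ha, by
        rw [show (⟨_, neg_mem ha⟩ : V) = -⟨_, ha⟩ from rfl, map_neg]; exact neg_mem ha'⟩
      mem_or_inv_mem' := fun y => by
        have key : ∀ z : K, z ∉ V → ∃ h : z⁻¹ ∈ V, ρ ⟨z⁻¹, h⟩ ∈ W := fun z hzV => by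
          refine ⟨(V.mem_or_inv_mem z).resolve_left hzV, ?_⟩
          rw [hz _ fun hu => ?_]
          · exact zero_mem _
          · obtain ⟨⟨c, hc⟩, hc1⟩ := isUnit_iff_exists_inv.1 hu
            have : c = z := by
              rw [← inv_inv z]; exact eq_inv_of_mul_eq_one_right (congrArg Subtype.val hc1)
            exact hzV (this ▸ hc)
        by_cases hy : y ∈ V
        · by_cases hy' : y⁻¹ ∈ V
          · rcases eq_or_ne y 0 with rfl | hy0
            · exact Or.inl ⟨hy, by rw [show (⟨0, hy⟩ : V) = 0 from rfl, map_zero]; exact zero_mem _⟩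
            rcases W.mem_or_inv_mem (ρ ⟨y, hy⟩) with h | h
            · exact Or.inl ⟨hy, h⟩
            · refine Or.inr ⟨hy', ?_⟩
              rwa [show ρ ⟨y⁻¹, hy'⟩ = (ρ ⟨y, hy⟩)⁻¹ from eq_inv_of_mul_eq_one_right (by
                rw [← map_mul]; exact (congrArg ρ (Subtype.ext (mul_inv_cancel₀ hy0))).trans (map_one _))]
          · obtain ⟨h1, h2⟩ := key y⁻¹ hy'
            exact Or.inl ⟨hy, by simpa only [inv_inv] using h2⟩
        · exact Or.inr (key y hy) }
  exact ⟨V', fun y hy => hy.1, fun y => ⟨fun ⟨_, h⟩ => h, fun h => ⟨y.2, h⟩⟩⟩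

/-- The valuation subring of a valuation ring with fraction field `K`. -/
def valSubring (B K : Type u) [CommRing B] [IsDomain B] [ValuationRing B] [Field K] [Algebra B K]
    [IsFractionRing B K] : ValuationSubring K :=
  { (algebraMap B K).range with
    mem_or_inv_mem' := fun x => by
      rcases ValuationRing.isInteger_or_isInteger B x with h | h
      · exact Or.inl h
      · exact Or.inr h }

theorem exists_regular_place : ∀ (d : ℕ) (A : Type u) [CommRing A] [IsDomain A] [IsRegularLocalRing A]
    (K : Type u) [Field K] [Algebra A K] [IsFractionRing A K], ringKrullDim A = (d : WithBot ℕ∞) →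
    ∃ (V : ValuationSubring K) (hV : ∀ a, algebraMap A K a ∈ V) (π : V →+* ResidueField A),
      RingHom.ker π = maximalIdeal V ∧ π.comp ((algebraMap A K).codRestrict V.toSubring hV) = residue A := by
  intro d
  induction d using Nat.strong_induction_on with
  | _ d ih =>
    intro A _ _ _ K _ _ _ hd
    by_cases hm : maximalIdeal A = ⊥
    · have hf : IsField A := by rw [IsLocalRing.isField_iff_maximalIdeal_eq]; exact hm
      letI := hf.toField
      let e : A ≃+* K := RingEquiv.ofBijective (algebraMap A K)
        ⟨IsFractionRing.injective A K, fun x => by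
          obtain ⟨a, b, hb, rfl⟩ := IsFractionRing.div_surjective (A := A) x
          exact ⟨a / b, map_div₀ _ a b⟩⟩
      refine ⟨⊤, fun a => trivial, (residue A).comp (e.symm.toRingHom.comp (⊤ : ValuationSubring K).subtype), ?_, ?_⟩
      · ext ⟨y, hy⟩
        obtain ⟨a, rfl⟩ := e.surjective y
        simp only [RingHom.mem_ker, RingHom.comp_apply, IsLocalRing.mem_maximalIdeal, mem_nonunits_iff,
          isUnit_iff_ne_zero, not_not]
        show residue A (e.symm (e a)) = 0 ↔ _
        rw [e.symm_apply_apply, residue_eq_zero_iff, hm, Ideal.mem_bot, ← map_eq_zero_iff e e.injective]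
        exact ⟨fun h => Subtype.ext h, fun h => congrArg Subtype.val h⟩
      · ext a
        exact congrArg (residue A) (e.symm_apply_apply a)
    · obtain ⟨x, hx, hx2⟩ : ∃ x ∈ maximalIdeal A, x ∉ maximalIdeal A ^ 2 := by
        by_contra! h
        exact hm (Submodule.eq_bot_of_le_smul_of_le_jacobson_bot (maximalIdeal A) (maximalIdeal A)
          (IsNoetherian.noetherian _) (fun y hy => by simpa [pow_two] using h y hy)
          (maximalIdeal_le_jacobson _))
      obtain ⟨hreg, hdim, -⟩ := H9CI.quotient_step hx hx2
      haveI := hreg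
      let P : Ideal A := Ideal.span {x}
      haveI hdom : IsDomain (A ⧸ P) := H4Depth.isDomain_of_isRegularLocalRing _
      haveI hP : P.IsPrime := (Ideal.Quotient.isDomain_iff_prime P).1 hdom
      have hx0 : x ≠ 0 := fun h => hx2 (h ▸ zero_mem _)
      let B := Localization.AtPrime P
      letI : Algebra B K := (IsLocalization.lift (M := P.primeCompl) (g := algebraMap A K) (fun s =>
        IsUnit.mk0 _ ((map_ne_zero_iff _ (IsFractionRing.injective A K)).2
          fun h => s.2 (h ▸ P.zero_mem)))).toAlgebra
      haveI : IsScalarTower A B K := IsScalarTower.of_algebraMap_eq fun a =>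
        (IsLocalization.lift_eq _ a).symm
      haveI : IsFractionRing B K := IsFractionRing.isFractionRing_of_isDomain_of_isLocalization P.primeCompl B K
      haveI : IsDomain B := IsLocalization.isDomain_of_le_nonZeroDivisors (M := P.primeCompl) B (fun s hs =>
        mem_nonZeroDivisors_of_ne_zero fun h => hs (h ▸ P.zero_mem))
      haveI : IsNoetherianRing B := IsLocalization.isNoetherianRing P.primeCompl B inferInstance
      have hmax : maximalIdeal B = Ideal.span {algebraMap A B x} := by
        rw [← IsLocalization.AtPrime.map_eq_maximalIdeal P B, Ideal.map_span, Set.image_singleton]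
      haveI : IsDiscreteValuationRing B := by
        have hnf : ¬ IsField B := by
          rw [IsLocalRing.isField_iff_maximalIdeal_eq, hmax, Ideal.span_singleton_eq_bot]
          exact (map_ne_zero_iff _ (IsLocalization.injective B (M := P.primeCompl) (fun s hs =>
            mem_nonZeroDivisors_of_ne_zero fun h => hs (h ▸ P.zero_mem)))).2 hx0
        refine ((IsDiscreteValuationRing.TFAE B hnf).out 0 4).mpr ?_
        exact ⟨⟨algebraMap A B x, hmax⟩⟩
      let V₁ := valSubring B K
      let eB : B ≃+* V₁ := RingEquiv.ofBijective ((algebraMap B K).codRestrict V₁.toSubring fun b => ⟨b, rfl⟩)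
        ⟨fun a b h => IsFractionRing.injective B K (congrArg Subtype.val h),
          fun ⟨y, b, hb⟩ => ⟨b, Subtype.ext hb⟩⟩
      let L := FractionRing (A ⧸ P)
      let gA : A →+* L := (algebraMap (A ⧸ P) L).comp (Ideal.Quotient.mk P)
      have hgA : ∀ s : P.primeCompl, IsUnit (gA s) := fun s => IsUnit.mk0 _ fun h => s.2
        (Ideal.Quotient.eq_zero_iff_mem.1 (IsFractionRing.injective (A ⧸ P) L (h.trans (map_zero _).symm)))
      let gB : B →+* L := IsLocalization.lift hgA
      let ρ : V₁ →+* L := gB.comp eB.symm.toRingHom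
      have hgB0 : gB (algebraMap A B x) = 0 := by
        show IsLocalization.lift hgA _ = 0
        rw [IsLocalization.lift_eq]
        show algebraMap (A ⧸ P) L (Ideal.Quotient.mk P x) = 0
        rw [Ideal.Quotient.eq_zero_iff_mem.2 (Ideal.mem_span_singleton_self x), map_zero]
      have hkerB : RingHom.ker gB = maximalIdeal B := by
        refine le_antisymm (IsLocalRing.le_maximalIdeal (RingHom.ker_ne_top gB)) ?_
        rw [hmax, Ideal.span_singleton_le_iff_mem]
        exact hgB0
      have hkerρ : RingHom.ker ρ = maximalIdeal V₁ := by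
        ext y
        rw [RingHom.mem_ker, show ρ y = gB (eB.symm y) from rfl, ← RingHom.mem_ker, hkerB]
        simp [IsLocalRing.mem_maximalIdeal, mem_nonunits_iff]
      obtain ⟨n, hn⟩ := H9CI.exists_nat_dim (A ⧸ P)
      have hnd : n < d := by
        have h2 : ((n : WithBot ℕ∞) + 1) = (d : WithBot ℕ∞) := by rw [← hn, ← hd]; exact hdim
        have h3 : n + 1 = d := by exact_mod_cast h2
        omega
      obtain ⟨W, hW, σ, hσ, hσres⟩ := ih n hnd (A ⧸ P) L hn
      obtain ⟨V', hle, hV'⟩ := exists_comp_valuation V₁ ρ hkerρ W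
      have hA : ∀ a, algebraMap A K a ∈ V' := fun a => by
        have e : algebraMap A K a = ((eB (algebraMap A B a) : V₁) : K) :=
          IsScalarTower.algebraMap_apply A B K a
        rw [e, hV']
        show gB (eB.symm (eB _)) ∈ W
        rw [eB.symm_apply_apply]
        show IsLocalization.lift hgA _ ∈ W
        rw [IsLocalization.lift_eq]
        exact hW _
      let t : V' →+* W := (ρ.comp (Subring.inclusion hle)).codRestrict W.toSubring fun y =>
        (hV' ⟨y, hle y.2⟩).1 y.2
      haveI : IsLocalHom (Ideal.Quotient.mk P) := IsLocalHom.of_surjective _ Ideal.Quotient.mk_surjective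
      let f : ResidueField (A ⧸ P) →+* ResidueField A := RingHom.comp
        (RingEquiv.ofBijective (ResidueField.map (Ideal.Quotient.mk P))
          ⟨RingHom.injective _, fun z => by
            obtain ⟨z, rfl⟩ := residue_surjective z
            obtain ⟨z, rfl⟩ := Ideal.Quotient.mk_surjective z
            exact ⟨residue A z, ResidueField.map_residue _ _⟩⟩).symm.toRingHom (RingHom.id _)
      refine ⟨V', hA, f.comp (σ.comp t), ?_, ?_⟩
      · have h1 : RingHom.ker (f.comp (σ.comp t)) = (maximalIdeal W).comap t := by
          rw [RingHom.ker_comp_of_injective _ f.injective, ← RingHom.comap_ker, hσ]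
        rw [h1]
        refine le_antisymm (IsLocalRing.le_maximalIdeal fun h => ?_) fun y hy => ?_
        · have h2 : (1 : V') ∈ (maximalIdeal W).comap t := by rw [h]; trivial
          rw [Ideal.mem_comap, map_one] at h2
          exact (maximalIdeal W).ne_top_iff_one.1 (maximalIdeal.isMaximal W).ne_top h2
        · intro hu
          refine hy (isUnit_iff_exists_inv.2 ?_)
          obtain ⟨w, hw⟩ := isUnit_iff_exists_inv.1 hu
          have hy₁ : IsUnit (Subring.inclusion hle y : V₁) := by
            by_contra h
            have h0 : ρ (Subring.inclusion hle y) = 0 := by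
              rw [← RingHom.mem_ker, hkerρ]; exact h
            have := congrArg Subtype.val hw
            rw [show ((t y * w : W) : L) = ρ (Subring.inclusion hle y) * (w : L) from rfl, h0, zero_mul] at this
            exact zero_ne_one this
          obtain ⟨z, hz⟩ := isUnit_iff_exists_inv.1 hy₁
          have hz' : (z : K) ∈ V' := by
            rw [hV']
            have h4 := congrArg ρ hz
            rw [map_mul, map_one] at h4
            have h5 := congrArg Subtype.val hw
            have : ρ z = (w : L) := by
              have e1 : ρ (Subring.inclusion hle y) ≠ 0 := left_ne_zero_of_mul_eq_one h4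
              exact mul_left_cancel₀ e1 (h4.trans h5.symm)
            rw [this]; exact w.2
          have hzK : ((y : K) * (z : K)) = 1 := congrArg Subtype.val hz
          exact ⟨⟨z, hz'⟩, Subtype.ext hzK⟩
      · ext a
        show f (σ (t ⟨algebraMap A K a, hA a⟩)) = residue A a
        have e1 : t ⟨algebraMap A K a, hA a⟩ =
            (algebraMap (A ⧸ P) L).codRestrict W.toSubring hW (Ideal.Quotient.mk P a) := by
          refine Subtype.ext ?_
          show gB (eB.symm ⟨algebraMap A K a, _⟩) = algebraMap (A ⧸ P) L (Ideal.Quotient.mk P a)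
          have e : (⟨algebraMap A K a, hle (hA a)⟩ : V₁) = eB (algebraMap A B a) :=
            Subtype.ext (IsScalarTower.algebraMap_apply A B K a)
          rw [e, eB.symm_apply_apply]
          exact IsLocalization.lift_eq _ _
        rw [e1, ← RingHom.comp_apply σ, hσres]
        simp only [f, RingHom.comp_id]
        exact (RingEquiv.symm_apply_eq _).2 (ResidueField.map_residue _ _).symm

end Groth.Agent.LeadSpec
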