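import Groth.Agent.LeadSpec.Identity
import Groth.Agent.LeadSpec.Setup
import Groth.Agent.LeadSpec.RegPlace

/-!
# Subgroups of the generic fibre over a regular local ring
-/

set_option autoImplicit false
set_option linter.style.haveILetI false
set_option backward.isDefEq.respectTransparency false
set_option synthInstance.maxHeartbeats 200000
set_option maxHeartbeats 1000000

universe u

open CategoryTheory CategoryTheory.Limits MonoidalCategory CartesianMonoidalCategory MonObj GrpObj AlgebraicGeometry

noncomputable section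

namespace Groth.Agent.LeadSpec

/-- Identities are stable under base change. -/
theorem identity_bc {S S' : Scheme.{u}} (f : S' ⟶ S) (G : Over S) [GrpObj G] (w : FreeGroup ℕ)
    (hw : Identity w G) : Identity w (Red.bc f G) := by
  obtain ⟨m, w, rfl⟩ := exists_fin w
  rw [identity_map_iff] at hw ⊢
  intro X x
  obtain ⟨q, hq⟩ := exists_tuple_map (Over.pullback f) G m x
  have h := congrArg (fun a => precompHom _ q (Functor.homMonoidHom (Over.pullback f) (X := pw G m) (M := G) a))
    (hw _ (pr G m))
  rw [map_one, map_one, lift_hom, lift_hom] at h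
  exact (congrArg (fun g => FreeGroup.lift g w) (funext hq).symm).trans h

/-- Identities of the generic fibre hold for separated flat groups. -/
theorem identity_of_generic {V : Type u} [CommRing V] [IsDomain V] {K : Type u} [Field K] [Algebra V K]
    [IsFractionRing V K] (Z : Over (Spec (CommRingCat.of V))) [GrpObj Z] [Flat Z.hom] [IsSeparated Z.hom]
    (w : FreeGroup ℕ) (hw : Identity w (Red.bc (gen (V := V) K) Z)) : Identity w Z := by
  obtain ⟨m, w, rfl⟩ := exists_fin w
  rw [identity_map_iff] at hw ⊢
  refine (identity_iff_universal Z w).2 ?_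
  let F := Over.pullback (gen (V := V) K)
  haveI := flat_pw Z m
  let T := pw Z m
  have hgen : F.map (FreeGroup.lift (pr Z m) w) = F.map 1 := by
    rw [Functor.map_one]
    refine Eq.trans ?_ (hw (F.obj T) (fun i => F.map (pr Z m i)))
    exact lift_hom (Functor.homMonoidHom F (X := T) (M := Z)) _ w
  haveI : IsSchemeTheoreticallyDominant (pullback.fst T.hom (gen (V := V) K)) :=
    IsSchemeTheoreticallyDominant.of_isPullback (IsPullback.of_hasPullback T.hom (gen K)).flip
  refine Over.OverMorphism.ext (H28Neron.ext_of_schDominant _ _ Z.hom (by rw [Over.w, Over.w])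
    (pullback.fst T.hom (gen (V := V) K)) ?_)
  have h := congrArg (fun f => f.left ≫ pullback.fst Z.hom (gen (V := V) K)) hgen
  simpa only [F, Over.pullback_map_left, pullback.lift_fst] using h

variable {A : Type u} [CommRing A] [IsDomain A] [IsRegularLocalRing A] (K : Type u) [Field K] [Algebra A K]
  [IsFractionRing A K] (G : Over (Spec (CommRingCat.of A))) [GrpObj G] [LocallyOfFiniteType G.hom]

/-- A closed subgroup of the generic fibre gives one of the special fibre, of the same dimension. -/
theorem exists_special_subgroup {H : Over (Spec (CommRingCat.of K))} [GrpObj H]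
    (i : H ⟶ Red.bc (Spec.map (CommRingCat.ofHom (algebraMap A K))) G) [IsMonHom i] (hcl : IsClosedImmersion i.left) :
    ∃ (H' : Over (Spec (CommRingCat.of (IsLocalRing.ResidueField A)))) (_ : GrpObj H')
      (i' : H' ⟶ Red.bc (Spec.map (CommRingCat.ofHom (algebraMap A (IsLocalRing.ResidueField A)))) G),
      IsMonHom i' ∧ IsClosedImmersion i'.left ∧ topologicalKrullDim ↥H'.left = topologicalKrullDim ↥H.left ∧
      (Flat G.hom → AlgGrp.IsNormalHom i → AlgGrp.IsNormalHom i') ∧
      (IsSeparated G.hom → ∀ w : FreeGroup ℕ, Identity w H → Identity w H') := by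
  obtain ⟨d, hd⟩ := H9CI.exists_nat_dim A
  obtain ⟨V, hV, π, hπ, hπres⟩ := exists_regular_place d A K hd
  let sp := Spec.map (CommRingCat.ofHom π)
  obtain ⟨g, hgen, hsp⟩ : ∃ g : Spec (CommRingCat.of V) ⟶ Spec (CommRingCat.of A),
      gen (V := V) K ≫ g = Spec.map (CommRingCat.ofHom (algebraMap A K)) ∧
      sp ≫ g = Spec.map (CommRingCat.ofHom (algebraMap A (IsLocalRing.ResidueField A))) := by
    refine ⟨Spec.map (CommRingCat.ofHom ((algebraMap A K).codRestrict V.toSubring hV)), ?_, ?_⟩
    · rw [← Spec.map_comp]; rfl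
    · rw [← Spec.map_comp]
      exact congrArg Spec.map (CommRingCat.hom_ext (hπres.trans (IsLocalRing.ResidueField.algebraMap_eq A).symm))
  let GV := Red.bc g G
  haveI : LocallyOfFiniteType GV.hom := inferInstanceAs (LocallyOfFiniteType (pullback.snd G.hom g))
  let a := H21Diag.bcCongrIso hgen.symm G ≪≫ H21Diag.bcCompIso (gen (V := V) K) g G
  haveI : IsMonHom a.hom.hom.hom := a.hom.hom.isMonHom_hom
  let i₁ : H ⟶ Red.bc (gen (V := V) K) GV := i ≫ a.hom.hom.hom
  haveI : IsClosedImmersion i₁.left := isClosedImmersion_comp_iso hcl a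
  obtain ⟨Z, _, j, e, hj, hjc, hjf, he, hei⟩ := exists_closure (K := K) GV i₁
  haveI := hj
  haveI := he
  haveI : LocallyOfFiniteType Z.hom := by rw [← Over.w j]; infer_instance
  let b := (H21Diag.bcCompIso sp g G).symm ≪≫ H21Diag.bcCongrIso hsp G
  haveI : IsMonHom b.hom.hom.hom := b.hom.hom.isMonHom_hom
  have hcl' : IsClosedImmersion ((Over.pullback sp).map j).left := by
    refine MorphismProperty.of_isPullback (P := @IsClosedImmersion) (g := j.left)
      (f := pullback.fst GV.hom sp) (f' := pullback.fst Z.hom sp) ?_ hjc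
    refine IsPullback.of_bot (v₂₁ := pullback.snd GV.hom sp) (v₂₂ := GV.hom) (h₃₁ := sp) ?_ ?_
      (IsPullback.of_hasPullback GV.hom sp)
    · rw [Over.w j]
      rw [show ((Over.pullback sp).map j).left ≫ pullback.snd GV.hom sp = pullback.snd Z.hom sp from
        Over.w ((Over.pullback sp).map j)]
      exact IsPullback.of_hasPullback Z.hom sp
    · simp
  refine ⟨_, inferInstance, (Over.pullback sp).map j ≫ b.hom.hom.hom, inferInstance,
    isClosedImmersion_comp_iso hcl' b, ?_, fun hG hn => ?_, fun hG w hw => ?_⟩
  · rw [dim_iso e]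
    exact le_antisymm (dim_special_le (K := K) π Z hπ) (le_dim_special (K := K) π Z hπ)
  · haveI : Flat GV.hom := inferInstanceAs (Flat (pullback.snd G.hom g))
    have hn₁ : AlgGrp.IsNormalHom ((Over.pullback (gen (V := V) K)).map j) := fun T p n => by
      obtain ⟨n', hn'⟩ := isNormalHom_comp_iso hn a T p (n ≫ e.inv)
      refine ⟨n' ≫ e.hom, ?_⟩
      have h2 : e.inv ≫ i₁ = (Over.pullback (gen (V := V) K)).map j := by rw [← hei, Iso.inv_hom_id_assoc]
      rw [Category.assoc, h2] at hn'
      rw [Category.assoc, hei]
      exact hn'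
    exact isNormalHom_comp_iso (isNormalHom_bc sp (isNormalHom_of_generic j hn₁)) b
  · haveI : IsSeparated GV.hom := inferInstanceAs (IsSeparated (pullback.snd G.hom g))
    haveI : IsSeparated Z.hom := by rw [← Over.w j]; infer_instance
    exact identity_bc sp Z w (identity_of_generic (K := K) Z w (identity_of_iso hw e.inv))

end Groth.Agent.LeadSpec
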