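import Groth.Agent.LeadSpec.Dim
import Groth.Agent.LeadSpec.FlatFP
import Groth.Agent.H19Grp.NeutralOrbit

/-!
# A separated neighbourhood of the neutral components of a flat group over a valuation ring
-/

set_option autoImplicit false
set_option linter.style.haveILetI false
set_option backward.isDefEq.respectTransparency false
set_option synthInstance.maxHeartbeats 200000
set_option maxHeartbeats 1000000

universe u

open CategoryTheory CategoryTheory.Limits MonoidalCategory CartesianMonoidalCategory MonObj GrpObj AlgebraicGeometry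
open Groth.Agent.H19Grp

namespace Groth.Agent.LeadSpec

variable {V : Type u} [CommRing V] [IsDomain V] [ValuationRing V]

theorem dim_fiber_le_generic {X : Scheme.{u}} (f : X ⟶ Spec (CommRingCat.of V)) [LocallyOfFiniteType f] [Flat f]
    (s : Spec (CommRingCat.of V)) :
    topologicalKrullDim (f.fiber s) ≤ topologicalKrullDim (f.fiber (genericPoint (Spec (CommRingCat.of V)))) := by
  let R := Localization.AtPrime s.asIdeal
  haveI : IsDomain R := IsLocalization.isDomain_localization (Ideal.primeCompl_le_nonZeroDivisors _)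
  haveI : ValuationRing R := by
    refine (ValuationRing.iff_dvd_total (R := R)).2 ⟨fun a b => ?_⟩
    obtain ⟨a, u, rfl⟩ := IsLocalization.exists_mk'_eq s.asIdeal.primeCompl a
    obtain ⟨b, v, rfl⟩ := IsLocalization.exists_mk'_eq s.asIdeal.primeCompl b
    have key : ∀ (x y : V) (u v : s.asIdeal.primeCompl), x ∣ y →
        IsLocalization.mk' R x u ∣ IsLocalization.mk' R y v := by
      rintro x _ u v ⟨c, rfl⟩
      exact ⟨IsLocalization.mk' R (c * u) v, by
        rw [← IsLocalization.mk'_mul, IsLocalization.mk'_eq_iff_eq, Submonoid.coe_mul]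
        exact congrArg _ (by ring)⟩
    exact (ValuationRing.dvd_total a b).imp (key _ _ _ _) (key _ _ _ _)
  let g : Spec (CommRingCat.of R) ⟶ Spec (CommRingCat.of V) :=
    Spec.map (CommRingCat.ofHom (algebraMap V R))
  have h1 : g (IsLocalRing.closedPoint R) = s := PrimeSpectrum.ext (Localization.AtPrime.comap_maximalIdeal)
  have h2 : g (genericPoint (Spec (CommRingCat.of R))) = genericPoint (Spec (CommRingCat.of V)) := by
    rw [genericPoint_eq_bot_of_affine, genericPoint_eq_bot_of_affine]
    refine PrimeSpectrum.ext ?_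
    show Ideal.comap (algebraMap V R) ⊥ = ⊥
    rw [← RingHom.ker_eq_comap_bot]
    exact (RingHom.injective_iff_ker_eq_bot _).1
      (IsLocalization.injective R (Ideal.primeCompl_le_nonZeroDivisors s.asIdeal))
  have h := H7Flat.dim_closed_le_dim_generic (pullback.snd f g)
  rwa [H8Props.FieldDim.dim_fiber_baseChange f (IsPullback.of_hasPullback f g), h1,
    H8Props.FieldDim.dim_fiber_baseChange f (IsPullback.of_hasPullback f g), h2] at h

variable (Z : Over (Spec (CommRingCat.of V))) [GrpObj Z] [Flat Z.hom] [LocallyOfFiniteType Z.hom]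

theorem dimLocConst_flat : DimLocConst Z := by
  let S := Spec (CommRingCat.of V)
  let e := η[Z].left
  have hh : ∀ s : S, topologicalKrullDim ↥(Z.hom ⁻¹' {s}) = topologicalKrullDim (Z.hom.fiber s) := fun s =>
    (IsHomeomorph.topologicalKrullDim_eq _ (Z.hom.fiberHomeo s).isHomeomorph).symm
  suffices key : ∀ s : S, topologicalKrullDim ↥(Z.hom ⁻¹' {s}) = topologicalKrullDim ↥(Z.hom ⁻¹' {genericPoint S}) from
    IsLocallyConstant.of_constant _ fun a b => (key a).trans (key b).symm
  intro s
  refine le_antisymm (by rw [hh, hh]; exact dim_fiber_le_generic Z.hom s) ?_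
  have hsp : e (genericPoint S) ⤳ e s := ((genericPoint_spec S).specializes trivial).map e.continuous
  have hfd : ∀ t : S, FlatMor.fibreDimAt Z.hom (e t) = topologicalKrullDim ↥(Z.hom ⁻¹' {t}) := fun t => by
    exact ((dim_neutralAt Z t).symm.trans (H06EGA15.dim_component_eq _ _ (one_comp_hom Z) t
      ((geomIrr_neutral Z).isIrreducible _ _ (one_comp_hom Z) t))).symm
  rw [← hfd, ← hfd]
  exact H8Props.FieldDim.fibreDimAt_le_of_specializes Z.hom hsp

/-- An open subscheme containing the neutral components which is separated over the base. -/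
theorem exists_sep_nbhd : ∃ W : Z.left.Opens, SGA3x.neutralSet Z ⊆ W ∧ IsSeparated (W.ι ≫ Z.hom) := by
  haveI : LocallyOfFinitePresentation Z.hom := lfp_of_flat_domain Z.hom
  let S := Spec (CommRingCat.of V)
  obtain ⟨U, hU, heU, -⟩ := exists_isAffineOpen_mem_and_subset
    (Set.mem_univ (η[Z].left (IsLocalRing.closedPoint V))) (U := (⊤ : Z.left.Opens))
  haveI : IsAffine U.toScheme := hU
  have hone : ∀ s : S, η[Z].left s ∈ U := fun s =>
    ((IsLocalRing.specializes_closedPoint s).map η[Z].left.continuous).mem_open U.2 heU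
  let a : AlgGrp.Action Z Z :=
    { act := μ[Z], one_act := MonObj.one_mul Z, mul_act := MonObj.mul_assoc Z }
  have hdim := dimLocConst_flat Z
  let W : Z.left.Opens := ⟨neutralOrbit a U, isOpen_neutralOrbit a U hdim⟩
  refine ⟨W, fun x hx => ?_, isSeparated_neutralOrbit a U hdim inferInstance W rfl⟩
  let q : Z ⟶ Z ⊗ Z := lift (𝟙 Z) (toUnit Z ≫ η[Z])
  refine ⟨q.left x, ⟨?_, ?_⟩, ?_⟩
  · rw [← Scheme.Hom.comp_apply, ← Over.comp_left, lift_fst]
    exact hx
  · rw [← Scheme.Hom.comp_apply, ← Over.comp_left, lift_snd, Over.comp_left, Scheme.Hom.comp_apply]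
    exact hone _
  · show μ[Z].left (q.left x) = x
    rw [← Scheme.Hom.comp_apply, ← Over.comp_left]
    show (lift (𝟙 Z) (toUnit Z ≫ η[Z]) ≫ μ[Z]).left x = x
    rw [← Hom.mul_def, ← Hom.one_def, _root_.mul_one]
    rfl

end Groth.Agent.LeadSpec
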