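import Groth.Agent.LeadSpec.Identity
import Groth.Agent.LeadSpec.SepNbhd
import Groth.Agent.LeadSpec.Generize
import Groth.Agent.LeadSpec.PowTangent
import Groth.Agent.H13AlgSp.FibreFlat
import Groth.Agent.H19Grp.IdentityComponent
import Groth.Agent.H28Neron.SpecialFibreImage
import Groth.Agent.H21Split.TypeR.Closed

/-!
# Torsion in the special fibre of a flat nilpotent group over a valuation ring
-/

set_option autoImplicit false
set_option linter.style.haveILetI false
set_option backward.isDefEq.respectTransparency false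
set_option synthInstance.maxHeartbeats 200000
set_option maxHeartbeats 1600000

universe u

open CategoryTheory CategoryTheory.Limits MonoidalCategory CartesianMonoidalCategory MonObj GrpObj AlgebraicGeometry
open Groth.Agent.H19Grp

noncomputable section

namespace Groth.Agent.LeadSpec

variable {V : Type u} [CommRing V] [IsDomain V] [ValuationRing V] {K : Type u} [Field K] [Algebra V K]
  [IsFractionRing V K] {k : Type u} [Field k] (π : V →+* k)
  (Z : Over (Spec (CommRingCat.of V))) [GrpObj Z] [Flat Z.hom] [LocallyOfFiniteType Z.hom]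

theorem fst_mem_neutralSet {H : Over (Spec (CommRingCat.of k))} [GrpObj H] [ConnectedSpace ↥H.left]
    (c : H ⟶ Red.bc (Spec.map (CommRingCat.ofHom π)) Z) [IsMonHom c] (p : H.left) :
    pullback.fst Z.hom (Spec.map (CommRingCat.ofHom π)) (c.left p) ∈ SGA3x.neutralSet Z := by
  have h : c.left p ∈ connectedComponent (α := (Red.bc (Spec.map (CommRingCat.ofHom π)) Z).left)
      (ept (Red.bc (Spec.map (CommRingCat.ofHom π)) Z)) :=
    (isPreconnected_range c.left.continuous).subset_connectedComponent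
      ⟨η[H].left (IsLocalRing.closedPoint k), hom_one_apply_map c _⟩ ⟨p, rfl⟩
  exact (Set.ext_iff.1 (preimage_neutralSet_field Z (Spec.map (CommRingCat.ofHom π))) _).2 h

/-- An identity of the generic fibre holds on connected subgroups of the special fibre. -/
theorem identity_neutral {H : Over (Spec (CommRingCat.of k))} [GrpObj H] [ConnectedSpace ↥H.left]
    (c : H ⟶ Red.bc (Spec.map (CommRingCat.ofHom π)) Z) [IsMonHom c] [Mono c] (w : FreeGroup ℕ)
    (hw : Identity w (Red.bc (gen (V := V) K) Z)) : Identity w H := by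
  obtain ⟨W, hW, hWs⟩ := exists_sep_nbhd Z
  obtain ⟨m, w, rfl⟩ := exists_fin w
  rw [identity_map_iff] at hw ⊢
  refine (identity_iff_universal H w).2 ?_
  let sp := Spec.map (CommRingCat.ofHom π)
  let F := Over.pullback (gen (V := V) K)
  let F' := Over.pullback sp
  haveI := flat_pw Z m
  let T := pw Z m
  let a : T ⟶ Z := FreeGroup.lift (pr Z m) w
  have hgen : F.map a = F.map 1 := by
    rw [Functor.map_one]
    refine Eq.trans ?_ (hw (F.obj T) (fun i => F.map (pr Z m i)))
    exact lift_hom (Functor.homMonoidHom F (X := T) (M := Z)) _ w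
  let O : T.left.Opens := a.left ⁻¹ᵁ W ⊓ (1 : T ⟶ Z).left ⁻¹ᵁ W
  have hO : O.ι ≫ a.left = O.ι ≫ (1 : T ⟶ Z).left := by
    have hr : ∀ f : T ⟶ Z, (f = a ∨ f = 1) → Set.range (O.ι ≫ f.left) ⊆ Set.range W.ι := by
      rintro f hf _ ⟨z, rfl⟩
      rw [Scheme.Opens.range_ι]
      rcases hf with rfl | rfl
      · exact z.2.1
      · exact z.2.2
    let a₁ := IsOpenImmersion.lift W.ι (O.ι ≫ a.left) (hr a (Or.inl rfl))
    let b₁ := IsOpenImmersion.lift W.ι (O.ι ≫ (1 : T ⟶ Z).left) (hr 1 (Or.inr rfl))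
    haveI : Flat (O.ι ≫ T.hom) := inferInstance
    haveI : IsSchemeTheoreticallyDominant (pullback.fst (O.ι ≫ T.hom) (gen (V := V) K)) :=
      IsSchemeTheoreticallyDominant.of_isPullback (IsPullback.of_hasPullback (O.ι ≫ T.hom) (gen K)).flip
    have e1 : a₁ ≫ W.ι = O.ι ≫ a.left := IsOpenImmersion.lift_fac _ _ _
    have e2 : b₁ ≫ W.ι = O.ι ≫ (1 : T ⟶ Z).left := IsOpenImmersion.lift_fac _ _ _
    have key : a₁ = b₁ := by
      refine H28Neron.ext_of_schDominant a₁ b₁ (W.ι ≫ Z.hom) ?_ (pullback.fst (O.ι ≫ T.hom) (gen (V := V) K)) ?_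
      · rw [← Category.assoc, ← Category.assoc, e1, e2, Category.assoc, Category.assoc, Over.w, Over.w]
      · rw [← cancel_mono W.ι, Category.assoc, Category.assoc, e1, e2]
        let r : pullback (O.ι ≫ T.hom) (gen (V := V) K) ⟶ pullback T.hom (gen (V := V) K) :=
          pullback.lift (pullback.fst _ _ ≫ O.ι) (pullback.snd _ _) (by rw [Category.assoc, pullback.condition])
        have hr : r ≫ pullback.fst T.hom (gen (V := V) K) = pullback.fst _ _ ≫ O.ι := pullback.lift_fst _ _ _
        have h := congrArg (fun f => r ≫ f.left ≫ pullback.fst Z.hom (gen (V := V) K)) hgen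
        simp only [F, Over.pullback_map_left, pullback.lift_fst] at h
        rwa [← Category.assoc, ← Category.assoc, hr, Category.assoc, Category.assoc] at h
    rw [← e1, ← e2, key]
  obtain ⟨q, hq⟩ := exists_tuple_map F' Z m (fun i => pr H m i ≫ c)
  have hA : q ≫ F'.map a = FreeGroup.lift (pr H m) w ≫ c := by
    show precompHom _ q (Functor.homMonoidHom F' (X := T) (M := Z) a) = _
    rw [lift_hom, lift_hom, show FreeGroup.lift (pr H m) w ≫ c = IsMonHom.monoidHom c (pw H m) _ from rfl,
      lift_hom]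
    exact congrArg (fun f => FreeGroup.lift f w) (funext hq)
  have hB : q ≫ F'.map (1 : T ⟶ Z) = (1 : pw H m ⟶ H) ≫ c := by
    rw [Functor.map_one, MonObj.one_comp]; exact MonObj.comp_one q
  let φ : (pw H m).left ⟶ T.left := q.left ≫ pullback.fst T.hom sp
  have hφ : ∀ (f : T ⟶ Z) (g : pw H m ⟶ H), q ≫ F'.map f = g ≫ c →
      φ ≫ f.left = g.left ≫ c.left ≫ pullback.fst Z.hom sp := fun f g h => by
    have h' := congrArg (fun z => z.left ≫ pullback.fst Z.hom sp) h
    simpa only [φ, Over.comp_left, F', Over.pullback_map_left, Category.assoc, pullback.lift_fst] using h'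
  have hφO : Set.range φ ⊆ Set.range O.ι := by
    rintro _ ⟨p, rfl⟩
    rw [Scheme.Opens.range_ι]
    have key : ∀ (f : T ⟶ Z) (g : pw H m ⟶ H), q ≫ F'.map f = g ≫ c → f.left (φ p) ∈ W := fun f g h => by
      refine hW ?_
      rw [← Scheme.Hom.comp_apply, hφ f g h, Scheme.Hom.comp_apply, Scheme.Hom.comp_apply]
      exact fst_mem_neutralSet π Z c _
    exact ⟨key a _ hA, key 1 _ hB⟩
  let o := IsOpenImmersion.lift O.ι φ hφO
  have ho : o ≫ O.ι = φ := IsOpenImmersion.lift_fac _ _ _
  rw [← cancel_mono c, ← hA, ← hB]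
  refine Over.OverMorphism.ext (pullback.hom_ext ?_ ((Category.assoc _ _ _).trans
    ((congrArg (q.left ≫ ·) ((Over.w (F'.map a)).trans (Over.w (F'.map 1)).symm)).trans (Category.assoc _ _ _).symm)))
  have h := congrArg (o ≫ ·) hO
  simp only [← Category.assoc, ho] at h
  simpa only [φ, Over.comp_left, F', Over.pullback_map_left, Category.assoc, pullback.lift_fst] using h

omit [ValuationRing V] in
/-- Only the unit of the generic fibre lies over the unit under the power map. -/
theorem eq_unit_of_pow {H : Over (Spec (CommRingCat.of K))} [GrpObj H] [IsAlgClosed K] [LocallyOfFiniteType H.hom]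
    (ℓ : ℕ) (hK : ∀ x : 𝟙_ (Over (Spec (CommRingCat.of K))) ⟶ H, x ^ ℓ = 1 → x = 1) {w : H.left}
    (hw : (𝟙 H ^ ℓ : H ⟶ H).left w = η[H].left (IsLocalRing.closedPoint K)) :
    w = η[H].left (IsLocalRing.closedPoint K) := by
  let pt := IsLocalRing.closedPoint K
  let f : H ⟶ H := 𝟙 H ^ ℓ
  haveI : JacobsonSpace H.left := LocallyOfFiniteType.jacobsonSpace H.hom
  have he : IsClosed ({η[H].left pt} : Set H.left) := H19Grp.isClosed_range_of_section η[H].left (Over.w η[H])
  have hF : IsClosed (f.left ⁻¹' {η[H].left pt}) := he.preimage f.left.continuous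
  have hsub : f.left ⁻¹' {η[H].left pt} ∩ closedPoints H.left ⊆ {η[H].left pt} := by
    rintro v ⟨hv, hvc⟩
    let q : 𝟙_ (Over (Spec (CommRingCat.of K))) ⟶ H :=
      Over.homMk (pointOfClosedPoint H.hom v hvc) (pointOfClosedPoint_comp _ _ _)
    have hq : q.left pt = v := pointOfClosedPoint_apply _ _ _ _
    have h1 : q ≫ f = η[H] := by
      refine Over.OverMorphism.ext (H19Grp.section_ext (Over.w (q ≫ f)) (Over.w η[H]) ?_)
      show f.left (q.left pt) = η[H].left pt
      rw [hq]
      exact hv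
    have h2 : q = η[H] := by
      have h3 := hK q (by
        rw [show q ^ ℓ = q ≫ f from by simp only [f, MonObj.comp_pow, Category.comp_id], h1, Hom.one_def,
          toUnit_unique (toUnit _) (𝟙 _), Category.id_comp])
      rwa [Hom.one_def, toUnit_unique (toUnit _) (𝟙 _), Category.id_comp] at h3
    show v = _
    rw [← hq, h2]
  have h := closure_mono hsub
  rw [closure_inter_closedPoints hF, he.closure_eq] at h
  exact h hw

/-- Torsion of order invertible in the residue field does not appear in the special fibre of a flat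
nilpotent group. -/
theorem torsion_special [IsAlgClosed K] [IsAlgClosed k] (hπ : RingHom.ker π = IsLocalRing.maximalIdeal V)
    (n : ℕ) (hn : Identity (nword n) (Red.bc (gen (V := V) K) Z)) (ℓ : ℕ) (hℓ : (ℓ : k) ≠ 0)
    (hK : ∀ x : 𝟙_ (Over (Spec (CommRingCat.of K))) ⟶ Red.bc (gen (V := V) K) Z, x ^ ℓ = 1 → x = 1)
    {H : Over (Spec (CommRingCat.of k))} [GrpObj H] [ConnectedSpace ↥H.left]
    (c : H ⟶ Red.bc (Spec.map (CommRingCat.ofHom π)) Z) [IsMonHom c] [Mono c]
    (x : 𝟙_ (Over (Spec (CommRingCat.of k))) ⟶ H) (hx : x ^ ℓ = 1) : x = 1 := by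
  let pt := IsLocalRing.closedPoint k
  let sp := Spec.map (CommRingCat.ofHom π)
  let Zk := Red.bc sp Z
  let S := Spec (CommRingCat.of V)
  haveI : LocallyOfFiniteType Zk.hom := inferInstanceAs (LocallyOfFiniteType (pullback.snd Z.hom sp))
  haveI : LocallyOfFinitePresentation Z.hom := lfp_of_flat_domain Z.hom
  obtain ⟨gC, hC⟩ := H19Grp.exists_grpObj_idComp Zk
  haveI := hC
  let C := H19Grp.idComp Zk
  let iC : C ⟶ Zk := H19Grp.idCompι Zk
  haveI : IsOpenImmersion iC.left := H28Neron.SpecialFibreImage.isOpenImmersion_idCompι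
  haveI : Mono iC := Over.mono_of_mono_left _
  haveI : LocallyOfFiniteType C.hom := by rw [← Over.w iC]; infer_instance
  haveI : ConnectedSpace ↥C.left := by
    rw [connectedSpace_iff_univ]
    refine ⟨⟨η[C].left pt, trivial⟩, ?_⟩
    refine iC.left.isOpenEmbedding.isInducing.isPreconnected_image.1 ?_
    rw [Set.image_univ, H19Grp.range_idCompι Zk]
    exact isPreconnected_connectedComponent
  have hnC : Identity (nword n) C := identity_neutral π Z iC (nword n) hn
  have hxr : Set.range (x ≫ c).left ⊆ Set.range iC.left := by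
    rintro _ ⟨p, rfl⟩
    rw [H19Grp.range_idCompι Zk, Over.comp_left, Scheme.Hom.comp_apply]
    exact (isPreconnected_range c.left.continuous).subset_connectedComponent
      ⟨η[H].left pt, hom_one_apply_map c _⟩ ⟨_, rfl⟩
  let a : 𝟙_ (Over (Spec (CommRingCat.of k))) ⟶ C :=
    Over.homMk (IsOpenImmersion.lift iC.left (x ≫ c).left hxr)
      (by rw [← Over.w iC, IsOpenImmersion.lift_fac_assoc, Over.w (x ≫ c)])
  have ha : a ≫ iC = x ≫ c := Over.OverMorphism.ext (IsOpenImmersion.lift_fac _ _ _)
  -- the power map is flat at the point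
  let P : Z ⟶ Z := 𝟙 Z ^ ℓ
  let f : C ⟶ C := 𝟙 C ^ ℓ
  let F' := Over.pullback sp
  have hfP : f ≫ iC = iC ≫ F'.map P := by
    rw [show F'.map P = (𝟙 Zk ^ ℓ : Zk ⟶ Zk) from
      (map_pow (Functor.homMonoidHom F' (X := Z) (M := Z)) (𝟙 Z) ℓ).trans (congrArg (· ^ ℓ) (F'.map_id Z))]
    simp only [f, MonObj.comp_pow, MonObj.pow_comp, Category.id_comp, Category.comp_id]
  have hflat : ((F'.map P).left.stalkMap (iC.left (a.left pt))).hom.Flat :=
    (H17.LocusBC.flat_stalkMap_comp_iff iC.left (F'.map P).left iC.left f.left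
      (congrArg (fun m => m.left) hfP) (a.left pt)).1 (flat_pow_stalkMap C n hnC ℓ hℓ a)
  have hY : IsPullback (pullback.fst Z.hom sp) (pullback.snd Z.hom sp) Z.hom sp := IsPullback.of_hasPullback _ _
  have hX : IsPullback (pullback.fst Z.hom sp) (F'.map P).left P.left (pullback.fst Z.hom sp) := by
    refine IsPullback.of_bot (v₂₁ := pullback.snd Z.hom sp) (v₂₂ := Z.hom) (h₃₁ := sp) ?_ ?_ hY
    · rw [show (F'.map P).left ≫ pullback.snd Z.hom sp = pullback.snd Z.hom sp from Over.w (F'.map P), Over.w P]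
      exact hY
    · simp [F']
  haveI : LocallyOfFinitePresentation (P.left ≫ Z.hom) := by rw [Over.w P]; infer_instance
  haveI : Flat (P.left ≫ Z.hom) := by rw [Over.w P]; infer_instance
  let z := pullback.fst Z.hom sp (iC.left (a.left pt))
  have hPz : ((P.left).stalkMap z).hom.Flat :=
    H13AlgSp.FibreFlat.flat_stalkMap_descend P.left Z.hom hY hX _ hflat
  -- the image of the point is the unit
  let e := η[Z].left
  have hz : Z.hom z = IsLocalRing.closedPoint V := by
    show Z.hom (pullback.fst Z.hom sp _) = _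
    rw [← Scheme.Hom.comp_apply, pullback.condition, Scheme.Hom.comp_apply]
    exact special_apply π hπ _
  have hPa : (iC.left (a.left pt)) = (x ≫ c).left pt := by
    rw [← ha]; rfl
  have hPze : P.left z = e (IsLocalRing.closedPoint V) := by
    show P.left (pullback.fst Z.hom sp _) = _
    rw [← Scheme.Hom.comp_apply, hX.w, Scheme.Hom.comp_apply, hPa]
    have h1 : (x ≫ c) ≫ F'.map P = (1 : 𝟙_ _ ⟶ Zk) := by
      rw [show F'.map P = (𝟙 Zk ^ ℓ : Zk ⟶ Zk) from
        (map_pow (Functor.homMonoidHom F' (X := Z) (M := Z)) (𝟙 Z) ℓ).trans (congrArg (· ^ ℓ) (F'.map_id Z))]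
      rw [MonObj.comp_pow, Category.comp_id, ← MonObj.pow_comp, hx, MonObj.one_comp]
    refine (congrArg (fun m : _ ⟶ Zk => pullback.fst Z.hom sp (m.left pt)) h1).trans ?_
    show pullback.fst Z.hom sp ((1 : 𝟙_ _ ⟶ Zk).left pt) = _
    rw [Hom.one_def, toUnit_unique (toUnit _) (𝟙 _), Category.id_comp]
    erw [fst_one_apply sp Z pt]
    rw [special_apply π hπ]
  -- a generization in the generic fibre
  have hsp : e (genericPoint S) ⤳ P.left z := by
    rw [hPze]
    exact ((genericPoint_spec S).specializes trivial).map e.continuous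
  obtain ⟨z', hz', hPz'⟩ := exists_specializes_of_flat_stalkMap P.left z hPz hsp
  have hz'g : Z.hom z' = genericPoint S := by
    have h1 : Z.hom (P.left z') = Z.hom z' := congrArg (fun m : Z.left ⟶ _ => m z') (Over.w P)
    rw [← h1, hPz']
    exact hom_one_apply Z _
  let ZK := Red.bc (gen (V := V) K) Z
  haveI : LocallyOfFiniteType ZK.hom := inferInstanceAs (LocallyOfFiniteType (pullback.snd Z.hom _))
  obtain ⟨w, hw, -⟩ := Scheme.Pullback.exists_preimage_pullback (f := Z.hom) (g := gen (V := V) K) z'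
    (IsLocalRing.closedPoint K) (by rw [hz'g, gen_apply])
  have hfst : Function.Injective (pullback.fst Z.hom (gen (V := V) K)) := by
    haveI := IsPreimmersion.of_isLocalization (R := V) (S := K) (nonZeroDivisors V)
    exact (pullback.fst Z.hom (gen (V := V) K)).isEmbedding.injective
  have he1 : pullback.fst Z.hom (gen (V := V) K) (η[ZK].left (IsLocalRing.closedPoint K)) = e (genericPoint S) :=
    (fst_one_apply (gen K) Z _).trans (congrArg e (gen_apply _))
  have hwe : w = η[ZK].left (IsLocalRing.closedPoint K) := by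
    refine eq_unit_of_pow ℓ hK (hfst ?_)
    rw [he1, ← hPz', ← hw, show (𝟙 ZK ^ ℓ : ZK ⟶ ZK) = (Over.pullback (gen K)).map P from
      ((map_pow (Functor.homMonoidHom (Over.pullback (gen K)) (X := Z) (M := Z)) (𝟙 Z) ℓ).trans
        (congrArg (· ^ ℓ) ((Over.pullback (gen K)).map_id Z))).symm]
    have hX' : ((Over.pullback (gen (V := V) K)).map P).left ≫ pullback.fst Z.hom (gen (V := V) K) =
        pullback.fst Z.hom (gen (V := V) K) ≫ P.left := by simp
    exact congrArg (fun m : pullback Z.hom (gen (V := V) K) ⟶ Z.left => m w) hX'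
  have hz'e : z' = e (genericPoint S) := by rw [← hw, hwe, he1]
  -- separatedness
  obtain ⟨W, hW, hWs⟩ := exists_sep_nbhd Z
  haveI := hWs
  have hzN : z ∈ SGA3x.neutralSet Z := by
    show pullback.fst Z.hom sp (iC.left (a.left pt)) ∈ _
    rw [hPa, Over.comp_left, Scheme.Hom.comp_apply]
    exact fst_mem_neutralSet π Z c _
  let eW : S ⟶ W.toScheme := IsOpenImmersion.lift W.ι e (by
    rintro _ ⟨t, rfl⟩
    rw [Scheme.Opens.range_ι]
    exact hW (one_mem_neutralSet Z t))
  have heW : eW ≫ W.ι = e := IsOpenImmersion.lift_fac _ _ _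
  haveI : IsClosedImmersion eW := by
    haveI : IsClosedImmersion (eW ≫ W.ι ≫ Z.hom) := by
      rw [← Category.assoc, heW, show e ≫ Z.hom = 𝟙 S from Over.w η[Z]]; infer_instance
    exact IsClosedImmersion.of_comp eW (W.ι ≫ Z.hom)
  obtain ⟨zW, hzW⟩ : z ∈ Set.range W.ι := by rw [Scheme.Opens.range_ι]; exact hW hzN
  have hzr : zW ∈ Set.range eW := by
    have h1 : eW (genericPoint S) ⤳ zW := by
      refine W.ι.isOpenEmbedding.isInducing.specializes_iff.1 ?_
      rw [hzW, ← Scheme.Hom.comp_apply, heW]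
      exact hz'e ▸ hz'
    exact h1.mem_closed eW.isClosedEmbedding.isClosed_range ⟨_, rfl⟩
  let u : Spec (CommRingCat.of k) ⟶ Z.left := (x ≫ c).left ≫ pullback.fst Z.hom sp
  obtain ⟨v, hv⟩ := H21Split.TypeR.exists_lift_reduced (eW ≫ W.ι) u (by
    rintro _ ⟨p, rfl⟩
    haveI : Subsingleton ↥(Spec (CommRingCat.of k)) := inferInstanceAs (Subsingleton (PrimeSpectrum k))
    obtain ⟨t, ht⟩ := hzr
    refine ⟨t, ?_⟩
    rw [Subsingleton.elim p pt]
    show (eW ≫ W.ι) t = pullback.fst Z.hom sp ((x ≫ c).left pt)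
    rw [Scheme.Hom.comp_apply, ht, hzW, ← hPa])
  have hv2 : v = sp := by
    have h1 : v ≫ (eW ≫ W.ι) ≫ Z.hom = sp := by
      rw [← Category.assoc, hv]
      show ((x ≫ c).left ≫ pullback.fst Z.hom sp) ≫ Z.hom = sp
      rw [Category.assoc, pullback.condition, ← Category.assoc]
      exact (congrArg (· ≫ sp) (Over.w (x ≫ c))).trans (Category.id_comp _)
    rwa [heW, show e ≫ Z.hom = 𝟙 S from Over.w η[Z], Category.comp_id] at h1
  have hxc : x ≫ c = (1 : 𝟙_ _ ⟶ Zk) := by
    rw [Hom.one_def, toUnit_unique (toUnit _) (𝟙 _), Category.id_comp]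
    refine Over.OverMorphism.ext (pullback.hom_ext ?_ ((Over.w (x ≫ c)).trans (Over.w η[Zk]).symm))
    show u = _
    rw [← hv, heW, hv2]
    exact (H19Grp.bc_one sp Z).symm
  exact (cancel_mono c).1 (hxc.trans (MonObj.one_comp c).symm)

end Groth.Agent.LeadSpec
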