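import Groth.Agent.LeadSpec.Sub
import Groth.Agent.LeadSpec.Torsion
import Groth.Agent.LeadSpec.NoTorsion
import Groth.Agent.H19Chev.IsogenyProperties
import Groth.Agent.S7986

/-!
# Specialization of unipotent subgroups
-/

set_option autoImplicit false
set_option linter.style.haveILetI false
set_option backward.isDefEq.respectTransparency false
set_option synthInstance.maxHeartbeats 200000
set_option maxHeartbeats 1000000

universe u

open CategoryTheory CategoryTheory.Limits MonoidalCategory CartesianMonoidalCategory MonObj GrpObj AlgebraicGeometry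
open Groth.Agent WithConv

noncomputable section

namespace Groth.Agent.LeadSpec

/-- A smooth connected affine group without subtorus is nilpotent. -/
theorem exists_identity_nword {K : Type u} [Field K] [IsAlgClosed K] (H : Over (Spec (CommRingCat.of K))) [GrpObj H]
    [IsAffine H.left] [ConnectedSpace ↥H.left] [Smooth H.hom] (hH : Red.HasNoSubtorus K H) :
    ∃ n, Identity (nword n) H := by
  obtain ⟨B, _, _, hft, _, hB, ⟨es⟩⟩ := H20Torus.exists_isUnipotent_model H hH
  let e : H ≅ CoactBr.sp K B := (Grp.forget _).mapIso es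
  haveI : IsMonHom e.inv := es.inv.hom.isMonHom_hom
  let Ψ : WithConv (B →ₐ[K] K) →* (𝟙_ (Over (Spec (CommRingCat.of K))) ⟶ H) :=
    MonoidHom.mk' (fun g => H19Chev.UnipotentIsogeny.unitIso.hom ≫ CoactBr.pt g.ofConv ≫ e.inv) fun g g' => by
      rw [← MonObj.comp_mul, ← MonObj.mul_comp,
        show CoactBr.pt (g * g').ofConv = CoactBr.pt g.ofConv * CoactBr.pt g'.ofConv from map_mul Spec.mapMulEquiv g g']
  have hΨ : Function.Surjective Ψ := fun x => by
    obtain ⟨φ, hφ⟩ := H19Chev.UnipotentIsogeny.exists_pt_eq' (H19Chev.UnipotentIsogeny.unitIso.inv ≫ x ≫ e.hom)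
    refine ⟨toConv φ, ?_⟩
    show H19Chev.UnipotentIsogeny.unitIso.hom ≫ CoactBr.pt (toConv φ).ofConv ≫ e.inv = x
    rw [WithConv.ofConv_toConv, hφ]
    simp
  haveI : Group.IsNilpotent (WithConv (B →ₐ[K] K)) := S7986.result K B hB
  haveI : Group.IsNilpotent (𝟙_ (Over (Spec (CommRingCat.of K))) ⟶ H) := Group.nilpotent_of_surjective Ψ hΨ
  obtain ⟨n, hn⟩ := Group.IsNilpotent.nilpotent' (G := 𝟙_ (Over (Spec (CommRingCat.of K))) ⟶ H)
  exact (isNilpotentGrp_iff H).1 (H19Chev.IsogenyProperties.isNilpotentGrp_of_points H n hn)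

/-- Unipotent subgroups specialize to unipotent subgroups of at least the same dimension satisfying the same
word identities. -/
theorem exists_specialized_unipotent {S : Scheme.{u}} {s s' : S} (h : s ⤳ s') (G : Over S) [GrpObj G]
    [LocallyOfFiniteType G.hom] [QuasiCompact G.hom]
    {H : Over (Spec (CommRingCat.of (AlgebraicClosure (S.residueField s))))}
    [GrpObj H] (i : H ⟶ Red.geomFibre s G) [IsMonHom i] (hcl : IsClosedImmersion i.left)
    (hsmH : Smooth H.hom) (haffH : IsAffine H.left) (hconnH : ConnectedSpace ↥H.left)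
    (hH : Red.HasNoSubtorus (AlgebraicClosure (S.residueField s)) H) :
    ∃ (H' : Over (Spec (CommRingCat.of (AlgebraicClosure (S.residueField s'))))) (_ : GrpObj H')
      (i' : H' ⟶ Red.geomFibre s' G), IsMonHom i' ∧ IsClosedImmersion i'.left ∧ Smooth H'.hom ∧
      IsAffine H'.left ∧ ConnectedSpace ↥H'.left ∧
      Red.HasNoSubtorus (AlgebraicClosure (S.residueField s')) H' ∧
      topologicalKrullDim ↥H.left ≤ topologicalKrullDim ↥H'.left ∧
      ∀ w : FreeGroup ℕ, Identity w H → Identity w H' := by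
  obtain ⟨D⟩ := nonempty_spz h
  let GV := Red.bc D.g G
  haveI : LocallyOfFiniteType GV.hom := inferInstanceAs (LocallyOfFiniteType (pullback.snd G.hom D.g))
  let K := AlgebraicClosure (S.residueField s)
  let a := D.genIso G
  haveI : IsMonHom a.hom.hom.hom := a.hom.hom.isMonHom_hom
  let i₁ : H ⟶ Red.bc (gen K) GV := i ≫ a.hom.hom.hom
  haveI : IsClosedImmersion i₁.left := isClosedImmersion_comp_iso hcl a
  obtain ⟨Z, _, j, e, hj, hjc, hjf, he, hei⟩ := exists_closure (K := K) GV i₁
  haveI := hj
  haveI := he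
  haveI : LocallyOfFiniteType Z.hom := by rw [← Over.w j]; infer_instance
  let sp := Spec.map (CommRingCat.ofHom D.π)
  haveI : LocallyOfFiniteType (Red.bc sp Z).hom := inferInstanceAs (LocallyOfFiniteType (pullback.snd Z.hom sp))
  obtain ⟨H', _, c, hc, hcc, hsm, hconn, hdim⟩ := exists_smooth_connected_subgroup (Red.bc sp Z)
  haveI := hc
  haveI := hcc
  haveI := hsm
  haveI := hconn
  haveI : Mono c := (Over.forget _).mono_of_mono_map (show Mono c.left from inferInstance)
  let b := D.specIso G
  haveI : IsMonHom b.hom.hom.hom := b.hom.hom.isMonHom_hom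
  have hcl' : IsClosedImmersion ((Over.pullback sp).map j).left := by
    refine MorphismProperty.of_isPullback (P := @IsClosedImmersion) (g := j.left)
      (f := pullback.fst GV.hom sp) (f' := pullback.fst Z.hom sp) ?_ hjc
    refine IsPullback.of_bot (v₂₁ := pullback.snd GV.hom sp) (v₂₂ := GV.hom) (h₃₁ := sp) ?_ ?_
      (IsPullback.of_hasPullback GV.hom sp)
    · rw [Over.w j]
      rw [show ((Over.pullback sp).map j).left ≫ pullback.snd GV.hom sp = pullback.snd Z.hom sp from
        Over.w ((Over.pullback sp).map j)]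
      exact IsPullback.of_hasPullback Z.hom sp
    · simp
  let i' : H' ⟶ Red.geomFibre s' G := (c ≫ (Over.pullback sp).map j) ≫ b.hom.hom.hom
  haveI hi'c : IsClosedImmersion i'.left := isClosedImmersion_comp_iso (by rw [Over.comp_left]; infer_instance) b
  haveI : QuasiCompact (Red.geomFibre s' G).hom := inferInstanceAs (QuasiCompact (pullback.snd G.hom _))
  haveI : QuasiCompact H'.hom := by rw [← Over.w i']; infer_instance
  haveI := haffH; haveI := hconnH; haveI := hsmH
  obtain ⟨n, hn⟩ := exists_identity_nword H hH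
  obtain ⟨ℓ, hℓ, hℓk⟩ := H19Chev.UnipotentIsogeny.exists_prime_ne_zero (K := AlgebraicClosure (S.residueField s'))
  have hℓK : (ℓ : K) ≠ 0 := fun h0 => hℓk (by
    have h1 : (ℓ : D.V) = 0 := IsFractionRing.injective D.V K (by rw [map_natCast, map_zero]; exact h0)
    simpa using congrArg D.π h1)
  have hK : ∀ x : 𝟙_ (Over (Spec (CommRingCat.of K))) ⟶ Red.bc (gen K) Z, x ^ ℓ = 1 → x = 1 := fun x hx => by
    have h1 : x ≫ e.inv = 1 := H19Chev.UnipotentIsogeny.eq_one_of_pow_eq_one hH ℓ hℓK _ (by
      rw [show (x ≫ e.inv) ^ ℓ = H19Chev.UnipotentIsogeny.postHom e.inv x ^ ℓ from rfl, ← map_pow, hx, map_one])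
    exact (cancel_mono e.inv).1 (h1.trans (MonObj.one_comp e.inv).symm)
  obtain ⟨haff, hnt⟩ := isAffine_and_hasNoSubtorus H' ℓ hℓ hℓk
    (torsion_special D.π Z D.ker_π n (identity_of_iso hn e.inv) ℓ hℓk hK c)
  refine ⟨H', inferInstance, i', inferInstance, hi'c, hsm, haff, hconn, hnt, ?_,
    fun w hw => identity_special (K := K) Z D.π c w (identity_of_iso hw e.inv)⟩
  rw [hdim, dim_iso e]
  exact le_dim_special (K := K) D.π Z D.ker_π

end Groth.Agent.LeadSpec
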