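import Mathlib.GroupTheory.Solvable
import Mathlib.GroupTheory.Nilpotent
import Mathlib.CategoryTheory.Monoidal.Cartesian.Grp
import Mathlib.GroupTheory.FreeGroup.Basic
import Groth.Prelude.Def_AGF
import Groth.Prelude.Def_Red2

/-!
# Word identities: commutative, solvable and nilpotent group objects
-/

set_option autoImplicit false
set_option linter.style.haveILetI false

universe u v

open scoped commutatorElement
open CategoryTheory MonoidalCategory CartesianMonoidalCategory MonObj GrpObj

noncomputable section

namespace Groth.Agent.LeadSpec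

section Group

variable {Γ : Type*} [Group Γ]

/-- All evaluations of the word are trivial. -/
def Holds {J : Type} (w : FreeGroup J) (Γ : Type*) [Group Γ] : Prop := ∀ x : J → Γ, FreeGroup.lift x w = 1

/-- The derived word. -/
def dword : ℕ → FreeGroup ℕ
  | 0 => FreeGroup.of 0
  | n + 1 => ⁅FreeGroup.map (2 * ·) (dword n), FreeGroup.map (2 * · + 1) (dword n)⁆

/-- The values of the derived word. -/
def dvals (Γ : Type*) [Group Γ] (n : ℕ) : Set Γ := Set.range fun x : ℕ → Γ => FreeGroup.lift x (dword n)

theorem lift_map' {α β : Type} (f : α → β) (x : β → Γ) (w : FreeGroup α) :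
    FreeGroup.lift x (FreeGroup.map f w) = FreeGroup.lift (x ∘ f) w := by
  rw [← MonoidHom.comp_apply]
  exact DFunLike.congr_fun (FreeGroup.ext_hom _ _ fun a => by simp) w

theorem dvals_succ (n : ℕ) : dvals Γ (n + 1) = {z | ∃ a ∈ dvals Γ n, ∃ b ∈ dvals Γ n, ⁅a, b⁆ = z} := by
  ext z
  constructor
  · rintro ⟨x, rfl⟩
    exact ⟨_, ⟨x ∘ (2 * ·), rfl⟩, _, ⟨x ∘ (2 * · + 1), rfl⟩, by
      simp only [dword, map_commutatorElement, lift_map']⟩
  · rintro ⟨_, ⟨a, rfl⟩, _, ⟨b, rfl⟩, rfl⟩
    refine ⟨fun i => if i % 2 = 0 then a (i / 2) else b (i / 2), ?_⟩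
    simp only [dword, map_commutatorElement, lift_map']
    congr 1
    · exact congrArg (fun f => FreeGroup.lift f (dword n)) (funext fun i => by simp)
    · refine congrArg (fun f => FreeGroup.lift f (dword n)) (funext fun i => ?_)
      simp only [Function.comp_apply]
      rw [if_neg (by omega), show (2 * i + 1) / 2 = i by omega]

theorem conj_mem_dvals (n : ℕ) {z : Γ} (hz : z ∈ dvals Γ n) (g : Γ) : g * z * g⁻¹ ∈ dvals Γ n := by
  obtain ⟨x, rfl⟩ := hz
  refine ⟨(MulAut.conj g).toMonoidHom ∘ x, ?_⟩
  show _ = (MulAut.conj g).toMonoidHom (FreeGroup.lift x (dword n))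
  rw [← MonoidHom.comp_apply]
  exact DFunLike.congr_fun (FreeGroup.ext_hom _ _ fun a => by simp) (dword n)

theorem closure_dvals (n : ℕ) : Subgroup.closure (dvals Γ n) = derivedSeries Γ n := by
  induction n with
  | zero =>
    rw [derivedSeries_zero, eq_top_iff]
    intro g _
    exact Subgroup.subset_closure ⟨fun _ => g, FreeGroup.lift_apply_of⟩
  | succ n ih =>
    rw [derivedSeries_succ, ← ih]
    haveI hN : (Subgroup.closure (dvals Γ (n + 1))).Normal := by
      refine ⟨fun z hz g => ?_⟩
      induction hz using Subgroup.closure_induction with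
      | mem a ha => exact Subgroup.subset_closure (conj_mem_dvals _ ha g)
      | one => simp
      | mul a b _ _ ha hb => simpa [_root_.mul_assoc] using mul_mem ha hb
      | inv a _ ha => simpa [_root_.mul_assoc] using inv_mem ha
    refine le_antisymm ?_ (Subgroup.commutator_le.2 fun a ha b hb => ?_)
    · rw [Subgroup.closure_le, dvals_succ]
      rintro z ⟨a, ha, b, hb, rfl⟩
      exact Subgroup.commutator_mem_commutator (Subgroup.subset_closure ha) (Subgroup.subset_closure hb)
    let q := QuotientGroup.mk' (Subgroup.closure (dvals Γ (n + 1)))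
    have key : ∀ x ∈ Subgroup.closure (dvals Γ n), ∀ y ∈ Subgroup.closure (dvals Γ n),
        Commute (q x) (q y) := by
      intro x hx y hy
      induction hx using Subgroup.closure_induction with
      | mem x hx =>
        induction hy using Subgroup.closure_induction with
        | mem y hy =>
          rw [← commutatorElement_eq_one_iff_commute, ← map_commutatorElement]
          refine (QuotientGroup.eq_one_iff _).2 (Subgroup.subset_closure ?_)
          rw [dvals_succ]
          exact ⟨x, hx, y, hy, rfl⟩
        | one => simp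
        | mul a b _ _ ha hb => rw [map_mul]; exact ha.mul_right hb
        | inv a _ ha => rw [map_inv]; exact ha.inv_right
      | one => simp
      | mul a b _ _ ha hb => rw [map_mul]; exact ha.mul_left hb
      | inv a _ ha => rw [map_inv]; exact ha.inv_left
    rw [← QuotientGroup.eq_one_iff]
    exact (map_commutatorElement q a b).trans (commutatorElement_eq_one_iff_commute.2 (key a ha b hb))

theorem derivedSeries_eq_bot_iff (n : ℕ) : derivedSeries Γ n = ⊥ ↔ Holds (dword n) Γ := by
  rw [← closure_dvals, Subgroup.closure_eq_bot_iff]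
  exact ⟨fun h x => h ⟨x, rfl⟩, by rintro h _ ⟨x, rfl⟩; exact h x⟩

/-- The nilpotency word `[…[[x, y₁], y₂], …, yₙ]`. -/
def nword : ℕ → FreeGroup ℕ
  | 0 => FreeGroup.of 0
  | n + 1 => FreeGroup.lift
      (fun i => if i = 0 then ⁅FreeGroup.of 0, FreeGroup.of 1⁆ else FreeGroup.of (i + 1)) (nword n)

theorem mem_upperCentralSeries_iff' (n : ℕ) (x : Γ) :
    x ∈ Subgroup.upperCentralSeries Γ n ↔
      ∀ a : ℕ → Γ, a 0 = x → FreeGroup.lift a (nword n) = 1 := by
  induction n generalizing x with
  | zero =>
    simp only [Subgroup.upperCentralSeries_zero, Subgroup.mem_bot, nword, FreeGroup.lift_apply_of]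
    exact ⟨fun h a ha => ha.trans h, fun h => h (fun _ => x) rfl⟩
  | succ n ih =>
    rw [Subgroup.mem_upperCentralSeries_succ_iff]
    have key : ∀ a : ℕ → Γ, FreeGroup.lift a (nword (n + 1)) =
        FreeGroup.lift (fun i => if i = 0 then ⁅a 0, a 1⁆ else a (i + 1)) (nword n) := by
      intro a
      simp only [nword]
      rw [← MonoidHom.comp_apply]
      refine DFunLike.congr_fun (FreeGroup.ext_hom _ _ fun i => ?_) _
      simp only [MonoidHom.comp_apply, FreeGroup.lift_apply_of]
      split_ifs <;> simp [map_commutatorElement]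
    constructor
    · intro h a ha
      rw [key]
      refine (ih _).1 (h (a 1)) _ ?_
      rw [if_pos rfl, ← ha, commutatorElement_def]
    · intro h y
      refine (ih _).2 fun b hb => ?_
      let a : ℕ → Γ := fun i => if i = 0 then x else if i = 1 then y else b (i - 1)
      have h' := h a rfl
      rw [key] at h'
      refine Eq.trans ?_ h'
      refine congrArg (fun f => FreeGroup.lift f (nword n)) (funext fun i => ?_)
      by_cases hi : i = 0
      · subst hi; rw [if_pos rfl, hb]; simp [a]
      · rw [if_neg hi]; simp [a, hi]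

theorem upperCentralSeries_eq_top_iff (n : ℕ) :
    Subgroup.upperCentralSeries Γ n = ⊤ ↔ Holds (nword n) Γ := by
  rw [eq_top_iff]
  exact ⟨fun h a => (mem_upperCentralSeries_iff' n _).1 (h trivial) a rfl,
    fun h x _ => (mem_upperCentralSeries_iff' n x).2 fun a _ => h a⟩

end Group

section Obj

variable {C : Type u} [Category.{v} C] [CartesianMonoidalCategory C]

/-- The word is an identity of the group object. -/
def Identity {J : Type} (w : FreeGroup J) (G : C) [GrpObj G] : Prop := ∀ X : C, Holds w (X ⟶ G)

theorem isCommMonObj_iff_identity [BraidedCategory C] (G : C) [GrpObj G] :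
    IsCommMonObj G ↔ Identity (⁅FreeGroup.of (0 : ℕ), FreeGroup.of 1⁆) G := by
  refine ⟨fun h X x => ?_, fun h => ⟨?_⟩⟩
  · rw [map_commutatorElement, commutatorElement_eq_one_iff_commute]
    simp only [FreeGroup.lift_apply_of]
    letI : CommMonoid (X ⟶ G) := Hom.commMonoid
    exact mul_comm (x 0) (x 1)
  · have h' := h (G ⊗ G) (fun i => if i = 0 then fst G G else snd G G)
    rw [map_commutatorElement, commutatorElement_eq_one_iff_commute] at h'
    simp only [FreeGroup.lift_apply_of, reduceIte, one_ne_zero] at h'
    have h1 : μ[G] = fst G G * snd G G := by rw [Hom.mul_def, lift_fst_snd, Category.id_comp]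
    rw [h1, MonObj.comp_mul]
    simpa using h'.eq.symm

end Obj

theorem isSolvableGrp_iff {S : AlgebraicGeometry.Scheme.{u}} (G : Over S) [GrpObj G] :
    Red.IsSolvableGrp G ↔ ∃ n, Identity (dword n) G :=
  exists_congr fun n => forall_congr' fun _ => derivedSeries_eq_bot_iff n

theorem isNilpotentGrp_iff {S : AlgebraicGeometry.Scheme.{u}} (G : Over S) [GrpObj G] :
    AGF.IsNilpotentGrp G ↔ ∃ n, Identity (nword n) G :=
  exists_congr fun n => forall_congr' fun _ => upperCentralSeries_eq_top_iff n

end Groth.Agent.LeadSpec
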